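import Cfsg.Agent.Lib.ConjRankThree.Cases
import Cfsg.Agent.Lib.ClassNM.Basic
import Cfsg.Agent.Lib.Solv.Nilpotent
import Cfsg.Agent.S4364
import Cfsg.Agent.Lib.Fusion.Parts
import Cfsg.Agent.Lib.PGroup.Elements

/-!
# Centraliser orders in centreless groups

The replacements of simplicity used in the rank three argument when only the centre is trivial.
-/

set_option autoImplicit false
set_option linter.style.haveILetI false
set_option linter.unusedSectionVars false

open Subgroup

namespace Cfsg.Lib.ConjRankThree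

universe u

variable {G : Type u} [Group G] [Finite G]

theorem val_lt_card (hZ : center G = ⊥) {x : G} (hx : x ≠ 1) : val x < Nat.card G := by
  refine lt_of_le_of_ne (card_le_card_group _) fun e => hx ?_
  have h : x ∈ center G := mem_center_iff.2 fun g =>
    (mem_cent.1 ((eq_top_of_card_eq _ e).symm ▸ mem_top g)).eq
  rwa [hZ, mem_bot] at h

theorem not_full_of_dvd_index {p : ℕ} (hp : p.Prime) {x : G}
    (hd : p ∣ (centralizer ({x} : Set G)).index) : ¬ Full G p (val x) := by
  intro hf
  have h1 := mul_dvd_mul hf hd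
  rw [val, card_mul_index, ← pow_succ] at h1
  have := (hp.pow_dvd_iff_le_factorization Nat.card_pos.ne').1 h1
  omega

theorem exists_not_full_prime (hZ : center G = ⊥) {x : G} (hx : x ≠ 1) :
    ∃ p : ℕ, p.Prime ∧ p ∣ Nat.card G ∧ ¬ Full G p (val x) := by
  have hne : (centralizer ({x} : Set G)).index ≠ 1 := fun e =>
    (val_lt_card hZ hx).ne (by rw [val, index_eq_one.1 e, card_top])
  obtain ⟨p, hp, hd⟩ := Nat.exists_prime_and_dvd hne
  exact ⟨p, hp, hd.trans (index_dvd_card _), not_full_of_dvd_index hp hd⟩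

theorem exists_sylow_le_of_full {p : ℕ} [hp : Fact p.Prime] {H : Subgroup G}
    (h : Full G p (Nat.card H)) : ∃ P : Sylow p G, (P : Subgroup G) ≤ H :=
  Cfsg.Lib.ClassNM.exists_sylow_le ((hp.out.pow_dvd_iff_le_factorization Nat.card_pos.ne').1 h)

theorem full_of_sylow_le {p : ℕ} [hp : Fact p.Prime] {H : Subgroup G} (P : Sylow p G)
    (h : (P : Subgroup G) ≤ H) : Full G p (Nat.card H) :=
  (full_iff P _).2 (card_dvd_of_le h)

/-- No prime is full in all centraliser orders. -/
theorem not_all_full (hZ : center G = ⊥) {s : ℕ} [Fact s.Prime] (hsG : s ∣ Nat.card G) :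
    ∃ y : G, y ≠ 1 ∧ ¬ Full G s (val y) := by
  by_contra hall
  push Not at hall
  obtain ⟨S⟩ : Nonempty (Sylow s G) := inferInstance
  have hcov : ∀ y : G, ∃ g : G, g * y * g⁻¹ ∈ centralizer ((S : Subgroup G) : Set G) := by
    intro y
    rcases eq_or_ne y 1 with rfl | hy
    · exact ⟨1, by simp⟩
    obtain ⟨P, hP⟩ := exists_sylow_le_of_full (H := centralizer ({y} : Set G)) (hall y hy)
    obtain ⟨g, hg⟩ := MulAction.exists_smul_eq G P S
    refine ⟨g, mem_centralizer_iff.2 fun t ht => ?_⟩
    rw [← hg, Sylow.coe_subgroup_smul] at ht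
    obtain ⟨s', hs', rfl⟩ := ht
    have := (mem_cent.1 (hP hs')).map (MulAut.conj g).toMonoidHom
    simpa using this.eq
  have htop := Cfsg.Lib.PGroup.eq_top_of_forall_exists_conj_mem
    (H := centralizer ((S : Subgroup G) : Set G)) hcov
  have hSc : (S : Subgroup G) ≤ center G := fun t ht => mem_center_iff.2 fun g =>
    ((mem_centralizer_iff.1 (htop ▸ mem_top g : g ∈ centralizer ((S : Subgroup G) : Set G))) t ht).symm
  rw [hZ, le_bot_iff] at hSc
  exact sylow_ne_bot hsG S hSc

/-- A nilpotent group with trivial centre is trivial. -/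
theorem eq_one_of_nilpotent (hZ : center G = ⊥) (hn : Group.IsNilpotent G) (x : G) : x = 1 := by
  haveI := hn
  by_contra hx
  haveI : Nontrivial G := ⟨⟨x, 1, hx⟩⟩
  exact Cfsg.Lib.Solv.inf_center_ne_bot_of_isNilpotent (N := (⊤ : Subgroup G)) top_ne_bot (by rw [hZ, inf_bot_eq])

/-- The intersection of two subgroups of coprime indices. -/
theorem index_inf_of_coprime {H K : Subgroup G} (h : H.index.Coprime K.index) :
    (H ⊓ K).index = H.index * K.index :=
  Nat.le_antisymm index_inf_le (Nat.le_of_dvd (Nat.pos_of_ne_zero index_ne_zero_of_finite)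
    (h.mul_dvd_of_dvd_of_dvd (index_dvd_of_le inf_le_left) (index_dvd_of_le inf_le_right)))

theorem inf_le_cent_mul (u v : G) :
    centralizer ({u} : Set G) ⊓ centralizer ({v} : Set G) ≤ centralizer ({u * v} : Set G) :=
  fun _ hg => mem_cent.2 ((mem_cent.1 hg.1).mul_right (mem_cent.1 hg.2))

end Cfsg.Lib.ConjRankThree
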