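import Cfsg.Agent.Lib.ConjRankThree.Centreless.Frob

/-!
# An abelian normal subgroup

If every product `z y` had type `c`, counting the class of `z y` gives `c (|B| - 1) ≤ k |B|`, against
`2 k ≤ c`.  Hence a translation subgroup exists, and with it an abelian normal subgroup.
-/

set_option autoImplicit false
set_option linter.style.haveILetI false
set_option linter.unusedSectionVars false

open Subgroup Cfsg.Lib.Char Cfsg.Lib.Char.CAEven

namespace Cfsg.Lib.ConjRankThree.Conf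

universe u

variable {G : Type u} [Group G] [Fintype G] {B : Subgroup G} {a b c : ℕ} (h : Conf G B a b c)

include h

theorem three_le_b : 3 ≤ b := by
  haveI : Fact (Nat.Prime 2) := ⟨Nat.prime_two⟩
  by_contra hb
  have hb2 : b = 2 := by have := h.b_gt; omega
  obtain ⟨S⟩ : Nonempty (Sylow 2 G) := inferInstance
  refine Cfsg.Lib.GW.not_isCyclic_sylow h.nsol S (isCyclic_of_prime_card (p := 2) ?_)
  have hna : ¬ 2 ∣ a := fun e =>
    Nat.prime_two.not_dvd_one (h.coprime ▸ Nat.dvd_gcd e (hb2 ▸ dvd_rfl))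
  have ha : a ≠ 0 := fun e => hna (e ▸ dvd_zero 2)
  rw [S.card_eq_multiplicity, h.card_G, hb2, Nat.factorization_mul ha two_ne_zero]
  simp [Nat.factorization_eq_zero_of_not_dvd hna, Nat.Prime.factorization_self Nat.prime_two]

/-- Not all products `z y` have type `c`. -/
theorem not_all_c {z : G} (hz1 : z ≠ 1) (hz : val z = a)
    (hall : ∀ y ∈ B, y ≠ 1 → z * y ≠ 1 ∧ val (z * y) = c) : False := by
  classical
  obtain ⟨y₀, hyB, hy1, hy⟩ := h.exists_mem
  have hB := h.ca
  have hcard := h.card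
  obtain ⟨N, hN⟩ : ∃ N, N = normalizer (B : Set G) := ⟨_, rfl⟩
  have hBN : B ≤ N := hN ▸ le_normalizer
  have hprod : ∀ y ∈ B, y ≠ 1 → ∀ g : G,
      ∃ α ∈ centralizer ({z} : Set G), ∃ β ∈ centralizer ({y} : Set G), g = α * β := fun y hy' hy'1 =>
    h.three.exists_mul hz (h.val_mem hy' hy'1)
  have hzB : ∀ g : G, g * z * g⁻¹ ∉ B :=
    h.coprime_of_not_mem_conj (fun e => h.three.nab (dvd_of_eq (hz.symm.trans e))) hz1
  have hzy : ∀ y ∈ B, y ≠ 1 → ∀ g : G, g * (z * y) * g⁻¹ ∉ B := fun y hy' hy'1 =>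
    h.coprime_of_not_mem_conj (fun e => h.three.nbc (dvd_of_eq (e.symm.trans (hall y hy' hy'1).2)))
      (hall y hy' hy'1).1
  -- counting the products
  have hcount : N.index * (b - 1) ≤ (centralizer ({z * y₀} : Set G)).index := by
    rw [← Cfsg.Lib.Char.card_classFinset, ← Nat.card_eq_finsetCard]
    have hdom : Nat.card ((G ⧸ N) × {u : B // u ≠ 1}) = N.index * (b - 1) := by
      rw [Nat.card_prod, ← index_eq_card, ← hcard]
      congr 1
      rw [Nat.card_eq_fintype_card, Nat.card_eq_fintype_card, Fintype.card_subtype_compl,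
        Fintype.card_subtype_eq]
    rw [← hdom]
    have hmem : ∀ (g : G) (u : B), u ≠ 1 →
        z * (g * u * g⁻¹) ∈ Cfsg.Lib.Char.classFinset (z * y₀) := by
      intro g u hu
      have hu' : (u : G) ≠ 1 := fun e => hu (Subtype.ext e)
      obtain ⟨α, hα, β, hβ, rfl⟩ := hprod u u.2 hu' g
      refine Cfsg.Lib.Char.mem_classFinset.2 ((isConj_mul hB hzB hzy hprod hyB hy1 u.2 hu').trans
        (isConj_iff.2 ⟨α, ?_⟩))
      rw [show α * β * u * (α * β)⁻¹ = α * (β * u * β⁻¹) * α⁻¹ by group,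
        mul_inv_eq_iff_eq_mul.2 (mem_cent.1 hβ).eq,
        show α * (z * (u : G)) * α⁻¹ = α * z * α⁻¹ * (α * u * α⁻¹) by group,
        mul_inv_eq_iff_eq_mul.2 (mem_cent.1 hα).eq]
    refine Nat.card_le_card_of_injective
      (fun p => ⟨_, hmem p.1.out p.2.1 p.2.2⟩) ?_
    rintro ⟨g, u, hu⟩ ⟨g', u', hu'⟩ e
    have e1 : g.out * (u : G) * g.out⁻¹ = g'.out * (u' : G) * g'.out⁻¹ :=
      mul_left_cancel (congrArg Subtype.val e)
    have hn : g'.out⁻¹ * g.out ∈ N := hN.ge <| hB.ti u.2 (fun e => hu (Subtype.ext e)) (by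
      rw [show g'.out⁻¹ * g.out * u * (g'.out⁻¹ * g.out)⁻¹ =
        g'.out⁻¹ * (g.out * u * g.out⁻¹) * g'.out by group, e1]
      simp [mul_assoc])
    have hgg : g' = g := by
      rw [← QuotientGroup.out_eq' g', ← QuotientGroup.out_eq' g]
      exact QuotientGroup.eq.2 hn
    subst hgg
    simp only [Prod.mk.injEq, Subtype.mk.injEq, true_and]
    exact Subtype.ext (mul_left_cancel (mul_right_cancel e1))
  -- the complement
  obtain ⟨K, hK⟩ : ∃ K, K = centralizer ({z} : Set G) ⊓ N := ⟨_, rfl⟩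
  have hNK : Nat.card N ≤ Nat.card K * b := by
    rw [← hcard, ← Nat.card_prod]
    refine Nat.card_le_card_of_surjective (fun p : K × B => (⟨p.1 * p.2,
      mul_mem (show (p.1 : G) ∈ N from (hK ▸ p.1.2 : (p.1 : G) ∈ centralizer ({z} : Set G) ⊓ N).2)
        (hBN p.2.2)⟩ : N)) ?_
    rintro ⟨n, hn⟩
    obtain ⟨α, hα, β, hβ, rfl⟩ := hprod y₀ hyB hy1 n
    have hβB : β ∈ B := hB.cent y₀ hyB hy1 ▸ hβ
    exact ⟨(⟨α, hK ▸ ⟨hα, (mul_mem_cancel_right (hBN hβB)).1 hn⟩⟩, ⟨β, hβB⟩), rfl⟩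
  have hAB : ∀ x : G, x ∈ centralizer ({z} : Set G) → x ∈ B → x = 1 := by
    intro x hxA hxB
    by_contra hx1
    exact hzB 1 (by
      rw [one_mul, inv_one, mul_one, ← hB.cent x hxB hx1]
      exact mem_cent.2 (mem_cent.1 hxA).symm)
  have hfpf : ∀ x ∈ K, x ≠ 1 → B ⊓ centralizer ({x} : Set G) = ⊥ := by
    intro x hx hx1
    rw [hK] at hx
    refine eq_bot_iff.2 fun u hu => ?_
    by_contra hu1
    rw [mem_bot] at hu1
    refine hx1 (hAB x hx.1 ?_)
    rw [← hB.cent u hu.1 hu1]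
    exact mem_cent.2 (mem_cent.1 hu.2).symm
  have hKne : K ≠ ⊥ := by
    intro hK0
    refine h.normalizer_ne (hN ▸ fun n hn => ?_)
    obtain ⟨α, hα, β, hβ, rfl⟩ := hprod y₀ hyB hy1 n
    have hβB : β ∈ B := hB.cent y₀ hyB hy1 ▸ hβ
    have hαK : α ∈ K := hK ▸ ⟨hα, (mul_mem_cancel_right (hBN hβB)).1 hn⟩
    rw [hK0, mem_bot] at hαK
    rw [hαK, one_mul]
    exact hβB
  -- a central element of the complement
  obtain ⟨κ, hκK, hκ1, hκc⟩ : ∃ κ ∈ K, κ ≠ 1 ∧ ∀ x ∈ K, Commute x κ := by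
    haveI : (B.subgroupOf N).Normal := hN ▸ Subgroup.normal_in_normalizer
    have hKN : K ≤ N := hK ▸ inf_le_right
    have hbne : B.subgroupOf N ≠ ⊥ := fun e => hy1 (by
      have : (⟨y₀, hBN hyB⟩ : N) ∈ B.subgroupOf N := mem_subgroupOf.2 hyB
      rw [e, mem_bot] at this
      exact congrArg Subtype.val this)
    have hkne : K.subgroupOf N ≠ ⊥ := fun e => hKne (eq_bot_iff.2 fun x hx => by
      have : (⟨x, hKN hx⟩ : N) ∈ K.subgroupOf N := mem_subgroupOf.2 hx
      rw [e, mem_bot] at this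
      exact mem_bot.2 (congrArg Subtype.val this))
    have hc := Cfsg.Lib.ComplementStructure.center_ne_bot hbne hkne fun x hx hx1 => by
      refine eq_bot_iff.2 fun u hu => mem_bot.2 (Subtype.ext ?_)
      have : (u : G) ∈ B ⊓ centralizer ({(x : G)} : Set G) :=
        ⟨mem_subgroupOf.1 hu.1, mem_cent.2 (congrArg Subtype.val (mem_cent.1 hu.2).eq)⟩
      rwa [hfpf x (mem_subgroupOf.1 hx) (fun e => hx1 (Subtype.ext e)), mem_bot] at this
    obtain ⟨⟨⟨⟨κ, hκN⟩, hκ⟩, hκcen⟩, hκ1⟩ :=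
      ((nontrivial_iff_exists_ne (1 : Subgroup.center (K.subgroupOf N))).1 ((nontrivial_iff_ne_bot _).2 hc))
    refine ⟨κ, mem_subgroupOf.1 hκ, fun e => hκ1 (Subtype.ext (Subtype.ext (Subtype.ext e))), fun x hx => ?_⟩
    exact congrArg Subtype.val (congrArg Subtype.val
      (mem_center_iff.1 hκcen ⟨⟨x, hKN hx⟩, mem_subgroupOf.2 hx⟩))
  have hκA : κ ∈ centralizer ({z} : Set G) := (hK ▸ hκK : κ ∈ centralizer ({z} : Set G) ⊓ N).1
  have hκN : κ ∈ N := (hK ▸ hκK : κ ∈ centralizer ({z} : Set G) ⊓ N).2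
  have hκval : val κ = c := by
    rcases h.three.cases κ hκ1 with e | e | e
    · exact absurd e (h.val_ne_a (hN ▸ hκN) hκ1)
    · exfalso
      refine hκ1 (orderOf_eq_one_iff.1 (Nat.eq_one_of_dvd_coprimes h.coprime ?_ ?_))
      · exact hz ▸ Subgroup.orderOf_dvd_natCard _ hκA
      · exact e ▸ Subgroup.orderOf_dvd_natCard _ (self_mem κ)
    · exact e
  have h2k : 2 * Nat.card K ≤ c := by
    have hle : K ≤ centralizer ({κ} : Set G) := fun x hx => mem_cent.2 (hκc x hx)
    have hlt : K < centralizer ({κ} : Set G) := lt_of_le_not_ge hle fun e => by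
      have hzK : z ∈ K := e (mem_cent.2 (mem_cent.1 hκA).symm)
      rw [hK] at hzK
      exact h.val_ne_a (hN ▸ hzK.2) hz1 hz
    obtain ⟨m, hm⟩ := card_dvd_of_le hle
    rw [← val, hκval] at hm
    rcases m with _ | _ | m
    · rw [mul_zero] at hm
      exact absurd hm (hκval ▸ val_pos κ).ne'
    · exact absurd (eq_of_le_of_card_ge hle (by rw [← val, hκval, hm, zero_add, mul_one])) hlt.ne
    · rw [hm, mul_comm 2]
      exact Nat.mul_le_mul_left _ (by omega)
  -- the inequality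
  have hb3 := h.three_le_b
  obtain ⟨hzy1, hzyc⟩ := hall y₀ hyB hy1
  have hm1 : (centralizer ({z * y₀} : Set G)).index * c = Nat.card N * N.index := by
    rw [← hzyc, val, index_mul_card, card_mul_index]
  have h3 : (b - 1) * c ≤ Nat.card K * b := by
    refine le_trans (Nat.le_of_mul_le_mul_right ?_ (Nat.pos_of_ne_zero N.index_ne_zero_of_finite)) hNK
    calc (b - 1) * c * N.index = N.index * (b - 1) * c := by ring
      _ ≤ (centralizer ({z * y₀} : Set G)).index * c := Nat.mul_le_mul_right _ hcount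
      _ = Nat.card N * N.index := hm1
  have hK1 : 0 < Nat.card K := Nat.card_pos
  have h4 := (Nat.mul_le_mul_left (b - 1) h2k).trans h3
  have : 2 * (b - 1) ≤ b := by
    refine Nat.le_of_mul_le_mul_right ?_ hK1
    calc 2 * (b - 1) * Nat.card K = (b - 1) * (2 * Nat.card K) := by ring
      _ ≤ Nat.card K * b := h4
      _ = b * Nat.card K := mul_comm _ _
  omega

/-- An abelian normal subgroup of order prime to `b`. -/
theorem exists_abelian_normal : ∃ V : Subgroup G, V.Normal ∧ V ≠ ⊥ ∧ (∀ x ∈ V, ∀ y ∈ V, x * y = y * x) ∧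
    (Nat.card V).Coprime b := by
  obtain ⟨z, hz1, hz⟩ := h.three.exa
  by_contra hno
  -- no translation subgroup
  have hH : ∀ H : Subgroup G, H.Normal → H ≠ ⊥ → ¬ (Nat.card H).Coprime b := by
    intro H hn hne hco
    haveI := hn
    haveI := h.nilpotent_of_coprime hco
    obtain ⟨p, V, -, hVH, hV1, hVc, -, hVn⟩ := Cfsg.Lib.Chev.Ree.exists_elementary H inferInstance hne
    refine hno ⟨(Subgroup.center H).map H.subtype, inferInstance, fun e => ?_, ?_, hco.coprime_dvd_left (card_dvd_of_le (map_subtype_le _))⟩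
    · haveI : Nontrivial H := (nontrivial_iff_ne_bot _).2 hne
      refine Cfsg.Lib.Solv.inf_center_ne_bot_of_isNilpotent (N := (⊤ : Subgroup H)) top_ne_bot ?_
      rw [top_inf_eq]
      exact (map_eq_bot_iff_of_injective _ H.subtype_injective).1 e
    · rintro _ ⟨x, hx, rfl⟩ _ ⟨y, hy, rfl⟩
      exact congrArg Subtype.val (mem_center_iff.1 hx y).symm
  have hHb : ∀ H : Subgroup G, H.Normal → H ≠ ⊥ → ¬ Nat.card H ∣ b := by
    intro H hn hne hd
    haveI := hn
    have hle : H ≤ B := by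
      have hcard : Nat.card (H ⊔ B : Subgroup G) ∣ b := by
        have hd' : Nat.card ↥(H ⊔ B : Subgroup G) ∣ Nat.card H * Nat.card B := by
          rw [← relIndex_bot_left (H ⊔ B), ← relIndex_mul_relIndex ⊥ H (H ⊔ B) bot_le le_sup_left,
            relIndex_bot_left]
          exact mul_dvd_mul_left _ (relIndex_sup_left (K := H) (H := B) ▸ relIndex_dvd_card _ _)
        refine (Nat.Coprime.dvd_mul_left ?_).1 (h.card_G ▸ card_subgroup_dvd_card (H ⊔ B))
        exact Nat.Coprime.coprime_dvd_left hd' (Nat.Coprime.mul_left (h.coprime.symm.coprime_dvd_left hd)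
          (h.card.symm ▸ h.coprime.symm))
      have he : B = H ⊔ B := eq_of_le_of_card_ge le_sup_right
        (h.card.symm ▸ Nat.le_of_dvd (h.card ▸ Nat.card_pos) hcard)
      exact he ▸ le_sup_left
    obtain ⟨u, hu, hu1⟩ := (bot_or_exists_ne_one H).resolve_left hne
    exact h.not_normal ⟨fun w hw g =>
      (mem_normalizer_iff.1 (h.ca.ti (hle hu) hu1 (hle (hn.conj_mem u hu g))) w).1 hw⟩
  refine h.not_all_c hz1 hz fun y hy hy1 => ?_
  have hyb := h.val_mem hy hy1
  have hne : z * y ≠ 1 := fun e => h.three.nab (dvd_of_eq (by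
    rw [← hyb, ← hz, eq_inv_of_mul_eq_one_left e]; exact Three.val_inv y))
  refine ⟨hne, ?_⟩
  have hidx : ∀ {w : G}, val w = a → (centralizer ({w} : Set G)).index = b := fun {w} hw => by
    have h1 := (centralizer ({w} : Set G)).card_mul_index
    rw [← val, hw, h.card_G] at h1
    exact Nat.eq_of_mul_eq_mul_left (hw ▸ val_pos w) h1
  have hidx' : (centralizer ({y} : Set G)).index = a := by rw [h.ca.cent y hy hy1, h.index_B]
  have hprod := h.three.exists_mul hz hyb
  rcases h.three.cases _ hne with e | e | e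
  · have hprod' : ∀ g : G, ∃ α ∈ centralizer ({y⁻¹} : Set G), ∃ β ∈ centralizer ({z⁻¹} : Set G),
        g = α * β := fun g => by
      obtain ⟨α, hα, β, hβ, e'⟩ := hprod g⁻¹
      refine ⟨β⁻¹, ?_, α⁻¹, ?_, by rw [← _root_.mul_inv_rev, ← e', inv_inv]⟩
      · exact mem_cent.2 (mem_cent.1 hβ).inv_inv
      · exact mem_cent.2 (mem_cent.1 hα).inv_inv
    obtain ⟨H, hHn, hH1, hd⟩ := exists_translate h.center (inv_ne_one.2 hy1) hprod'
      (by rw [← _root_.mul_inv_rev, Three.val_inv, Three.val_inv, e, hz])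
    exact absurd (hidx (w := z⁻¹) (by rw [Three.val_inv, hz]) ▸ hd) (hHb H hHn hH1)
  · obtain ⟨H, hHn, hH1, hd⟩ := exists_translate h.center hz1 hprod (e.trans hyb.symm)
    exact absurd (Nat.Coprime.coprime_dvd_left (hidx' ▸ hd) h.coprime) (hH H hHn hH1)
  · exact e

end Cfsg.Lib.ConjRankThree.Conf
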