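import Cfsg.Agent.Lib.ConjRankThree.Centreless.OddCase
import Cfsg.Agent.Lib.Solv.KW.Main
import Cfsg.Agent.S0225

/-!
# No involution normalises `B` without centralising it

The centraliser of such an involution `κ` is a `2`-group modulo `F`, it maps onto the centraliser of the
image, and the image is the only involution of a Sylow subgroup of `G/F`.  So `G/F` is solvable.
-/

set_option autoImplicit false
set_option linter.style.haveILetI false
set_option linter.unusedSectionVars false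

open Subgroup Cfsg.Lib.Char Cfsg.Lib.Char.CAEven

namespace Cfsg.Lib.ConjRankThree.Conf

universe u

variable {G : Type u} [Group G] [Fintype G] {B : Subgroup G} {a b c : ℕ} (h : Conf G B a b c)

include h

theorem exists_odd_abelian {κ : G} (hκ : val κ = c)
    (hG : ∀ (v : G) (l i : ℕ), Commute κ v → l.Prime → l ≠ 2 → orderOf v = l ^ i → v ∈ Cfsg.fittingSubgroup G) :
    ∃ W : Subgroup G, W.Normal ∧ W ≤ Cfsg.fittingSubgroup G ∧ W ≠ ⊥ ∧ (∀ x ∈ W, ∀ y ∈ W, x * y = y * x) ∧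
      Odd (Nat.card W) ∧ Cfsg.fittingSubgroup G ≤ centralizer (W : Set G) := by
  classical
  by_cases hp : ∃ p : ℕ, p.Prime ∧ p ≠ 2 ∧ p ∣ Nat.card (Cfsg.fittingSubgroup G)
  · obtain ⟨p, hp, hp2, hpF⟩ := hp
    haveI := Fact.mk hp
    haveI hn : (Cfsg.pCore p G).Normal := sSup_normal _ fun _ h' => h'.1
    obtain ⟨⟨x, hxF⟩, hxo⟩ := exists_prime_orderOf_dvd_card' (G := Cfsg.fittingSubgroup G) p hpF
    rw [Subgroup.orderOf_mk] at hxo
    have hxp := Cfsg.Lib.Fusion.mem_pCore_of_mem_fitting hxF ⟨1, by rw [hxo, pow_one]⟩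
    have hpne : Cfsg.pCore p G ≠ ⊥ := fun e => by
      rw [e, mem_bot] at hxp
      rw [hxp, orderOf_one] at hxo
      exact hp.one_lt.ne hxo
    obtain ⟨W, hWn, hW1, hWD, hWc, -, hWcD⟩ := exists_omega p hpne (Cfsg.Lib.Fusion.pCore_isPGroup (G := G) p)
    refine ⟨W, hWn, hWD.trans (Cfsg.Lib.Core.pCore_le_fittingSubgroup p G), hW1, hWc, ?_, ?_⟩
    · obtain ⟨k, hk⟩ := ((Cfsg.Lib.Fusion.pCore_isPGroup (G := G) p).to_le hWD).exists_card_eq
      rw [hk]; exact (hp.odd_of_ne_two hp2).pow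
    · refine le_of_primePow fun q hq v hv j hj => mem_centralizer_iff.2 fun w hw => ?_
      rcases eq_or_ne q p with rfl | hqp
      · exact hWcD w hw v (Cfsg.Lib.Fusion.mem_pCore_of_mem_fitting hv ⟨j, hj⟩)
      · exact commute_of_normal_of_disjoint (Cfsg.pCore p G) (Cfsg.pCore q G) hn (sSup_normal _ fun _ h' => h'.1)
          (IsPGroup.disjoint_of_ne p q (Ne.symm hqp) _ _ (Cfsg.Lib.Fusion.pCore_isPGroup (G := G) p)
            (Cfsg.Lib.Fusion.pCore_isPGroup (G := G) q))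
          w v (hWD hw) (Cfsg.Lib.Fusion.mem_pCore_of_mem_fitting hv ⟨j, hj⟩)
  exfalso
  push Not at hp
  haveI : Fact (Nat.Prime 2) := ⟨Nat.prime_two⟩
  obtain ⟨x, hx1, hx⟩ := h.three.exa
  have ha : a ≠ 0 := fun e => (val_pos x).ne' (hx.trans e)
  -- `a` is a power of two
  have ha2 : ∀ {d : ℕ}, d.Prime → d ∣ a → d = 2 := fun {d} hd hda => by
    by_contra hd2
    haveI := Fact.mk hd
    have hdG : d ∣ Nat.card G := hda.trans (hx ▸ val_dvd_card x)
    have hdb : ¬ d ∣ b := fun e => hd.not_dvd_one (h.coprime ▸ Nat.dvd_gcd hda e)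
    obtain ⟨S⟩ : Nonempty (Sylow d G) := inferInstance
    obtain ⟨z, -, hz1, -, ⟨i, hi⟩, hzf⟩ := exists_central hdG S
    have hzF : z ∉ Cfsg.fittingSubgroup G := fun e => hp d hd hd2 (by
      refine dvd_trans ?_ (Subgroup.orderOf_dvd_natCard _ e)
      rcases i with _ | i
      · exact absurd (orderOf_eq_one_iff.1 (hi.trans (pow_zero d))) hz1
      · exact hi ▸ dvd_pow_self d i.succ_ne_zero)
    rw [h.typeC hzF (h.val_ne_b hd hdb hi)] at hzf
    have hdc : d ∣ c := (dvd_pow_self d (hd.factorization_pos_of_dvd Nat.card_pos.ne' hdG).ne').trans hzf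
    obtain ⟨⟨v, hv⟩, hvo⟩ := exists_prime_orderOf_dvd_card' (G := centralizer ({κ} : Set G)) d
      (by rw [← val, hκ]; exact hdc)
    rw [Subgroup.orderOf_mk] at hvo
    refine hp d hd hd2 (hvo ▸ Subgroup.orderOf_dvd_natCard _ ?_)
    exact hG v d 1 (mem_cent.1 hv).symm hd hd2 (by rw [hvo, pow_one])
  obtain ⟨S⟩ : Nonempty (Sylow 2 G) := inferInstance
  have hScard : Nat.card (S : Subgroup G) = a := by
    have hk := Nat.eq_prime_pow_of_unique_prime_dvd ha (fun {d} hd hda => ha2 hd hda)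
    have hb : b ≠ 0 := h.card ▸ Nat.card_pos.ne'
    have hk' : (Nat.card G).factorization 2 = a.primeFactorsList.length := by
      rw [h.card_G, Nat.factorization_mul ha hb, Finsupp.add_apply,
        Nat.factorization_eq_zero_of_not_dvd h.two_not_dvd, add_zero]
      conv_lhs => rw [hk]
      rw [Nat.prime_two.factorization_pow, Finsupp.single_eq_same]
    rw [S.card_eq_multiplicity, hk']
    exact hk.symm
  have hcop : (Nat.card (S : Subgroup G)).Coprime (Nat.card B) := by rw [hScard, h.card]; exact h.coprime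
  have hcompl : IsComplement' (S : Subgroup G) B :=
    isComplement'_of_card_mul_and_disjoint (by rw [hScard, h.card, h.card_G])
      (Subgroup.disjoint_def.2 fun {g} hgS hgB => orderOf_eq_one_iff.1 (Nat.eq_one_of_dvd_coprimes hcop
        (Subgroup.orderOf_dvd_natCard _ hgS) (Subgroup.orderOf_dvd_natCard _ hgB)))
  haveI : IsMulCommutative B := ⟨⟨fun p q => Subtype.ext (h.ca.comm p p.2 q q.2)⟩⟩
  refine h.nsol (Cfsg.Lib.Solv.KW.solvable_of_coprime (Nat.card G) G (S : Subgroup G) B le_rfl S.2.isNilpotent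
    (by open scoped IsMulCommutative in infer_instance) hcop fun g => ?_)
  obtain ⟨⟨p, q⟩, e⟩ := hcompl.2 g
  exact ⟨p, p.2, q, q.2, e.symm⟩

theorem false_of_even {κ : G} (hκN : κ ∈ normalizer (B : Set G)) (hκ : val κ = c) (hκo : orderOf κ = 2)
    (hκF : κ ∉ Cfsg.fittingSubgroup G) : False := by
  classical
  haveI : Fact (Nat.Prime 2) := ⟨Nat.prime_two⟩
  have hκ1 : κ ≠ 1 := fun e => hκF (e ▸ one_mem _)
  have hκκ : κ * κ = 1 := by rw [← pow_two, ← hκo, pow_orderOf_eq_one]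
  have hκi : κ⁻¹ = κ := inv_eq_of_mul_eq_one_right hκκ
  haveI hFn := Cfsg.Lib.Core.fittingSubgroup_normal' G
  haveI hFnil := Cfsg.Lib.Core.fittingSubgroup_isNilpotent G
  haveI hDn : (Cfsg.pCore 2 G).Normal := sSup_normal _ fun _ h' => h'.1
  -- odd parts of `C(κ)` lie in `F`
  obtain ⟨W₂, hW₂n, hW₂1, hW₂D, hW₂c, hW₂2, -⟩ :=
    exists_omega 2 h.pCore_ne_bot (Cfsg.Lib.Fusion.pCore_isPGroup (G := G) 2)
  haveI := hW₂n
  have hG : ∀ (v : G) (l i : ℕ), Commute κ v → l.Prime → l ≠ 2 → orderOf v = l ^ i → v ∈ Cfsg.fittingSubgroup G := by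
    intro v l i hc hl hl2 hv
    by_contra hvF
    refine hvF (h.elem_two (hW₂D.trans (Cfsg.Lib.Core.pCore_le_fittingSubgroup 2 G)) hW₂1 hW₂c
      (fun w hw => by rw [← pow_two]; exact hW₂2 w hw) ?_ (fun e => hvF (e ▸ one_mem _)) hκ
      (by rw [hv]; exact (hl.odd_of_ne_two hl2).pow) (i := 1) (by rw [hκo, pow_one]) hc.symm
      (by rw [hκκ]; exact one_mem _))
    refine h.typeC hvF ?_
    by_cases hlb : l ∣ b
    · exfalso
      rcases i with _ | i
      · exact hvF (by rw [orderOf_eq_one_iff.1 (hv.trans (pow_zero l))]; exact one_mem _)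
      · have hlc : l ∣ c := ((hv ▸ dvd_pow_self l i.succ_ne_zero : l ∣ orderOf v)).trans
          (hκ ▸ Subgroup.orderOf_dvd_natCard _ (mem_cent.2 hc.symm))
        exact hl.not_dvd_one (h.coprime ▸ Nat.dvd_gcd (hlc.trans h.three.ca) hlb)
    · exact h.val_ne_b hl hlb hv
  have hodd : ∀ v : G, Commute κ v → ∃ k : ℕ, v ^ 2 ^ k ∈ Cfsg.fittingSubgroup G := by
    intro v hv
    refine ⟨(orderOf v).factorization 2, le_of_primePow (H := Cfsg.fittingSubgroup G)
      (K := zpowers (v ^ 2 ^ (orderOf v).factorization 2)) (fun p hp w hw j hj => ?_) (mem_zpowers _)⟩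
    rcases eq_or_ne w 1 with rfl | hw1
    · exact one_mem _
    have hcw : Commute κ w := by
      obtain ⟨k, rfl⟩ := mem_zpowers_iff.1 hw
      exact (hv.pow_right _).zpow_right k
    refine hG w p j hcw hp.out (fun e => hw1 ?_) hj
    subst e
    have h1 : orderOf w ∣ orderOf (v ^ 2 ^ (orderOf v).factorization 2) := orderOf_dvd_of_mem_zpowers hw
    rw [orderOf_pow_of_dvd (pow_ne_zero _ two_ne_zero) (Nat.ordProj_dvd _ _), hj] at h1
    rcases j with _ | j
    · exact orderOf_eq_one_iff.1 (by rw [hj, pow_zero])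
    · exact absurd ((dvd_pow_self 2 j.succ_ne_zero).trans h1)
        (Nat.not_dvd_ordCompl Nat.prime_two (orderOf_pos v).ne')
  obtain ⟨W, hWn, hWF, hW1, hWc, hWodd, hFW⟩ := h.exists_odd_abelian hκ hG
  haveI := hWn
  have hinvol : ∀ (f : G) (i : ℕ), Commute κ f → orderOf f = 2 ^ i → f ∉ Cfsg.fittingSubgroup G →
      f * f ∈ Cfsg.fittingSubgroup G → κ * f ∈ Cfsg.fittingSubgroup G := fun f i hc hf hfF hff => by
    by_contra hp
    exact hκF (h.four hWF hW1 hWc hWodd hc (by rw [hκκ]; exact one_mem _) (hFW hff) (i := 1)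
      (by rw [hκo, pow_one]) hf hfF hp)
  -- covering
  have hcover : ∀ g : G, g * κ * g⁻¹ * κ⁻¹ ∈ Cfsg.fittingSubgroup G →
      ∃ x ∈ Cfsg.fittingSubgroup G, Commute κ (x * g) := by
    intro g hg
    obtain ⟨y₀, hy₀, hy₀1, -⟩ := h.exists_mem
    obtain ⟨y, hy⟩ : ∃ y, y = y₀⁻¹ * (κ * y₀ * κ⁻¹) := ⟨_, rfl⟩
    have hyB : y ∈ B := hy ▸ mul_mem (inv_mem hy₀) ((mem_normalizer_iff.1 hκN y₀).1 hy₀)
    have hy1 : y ≠ 1 := fun e => by
      rw [hy, inv_mul_eq_one, eq_comm, mul_inv_eq_iff_eq_mul] at e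
      have hκB : κ ∈ B := h.ca.cent y₀ hy₀ hy₀1 ▸ mem_cent.2 e
      exact h.three.nbc (dvd_of_eq ((h.val_mem hκB hκ1).symm.trans hκ))
    have hinv : κ * y * κ⁻¹ = y⁻¹ := by
      rw [hy, hκi]
      calc κ * (y₀⁻¹ * (κ * y₀ * κ)) * κ = κ * y₀⁻¹ * κ * y₀ * (κ * κ) := by group
        _ = (y₀⁻¹ * (κ * y₀ * κ))⁻¹ := by
          rw [hκκ, mul_one, _root_.mul_inv_rev, _root_.mul_inv_rev, _root_.mul_inv_rev, hκi, inv_inv]
          group
    have hy2 : y * y ≠ 1 := fun e => h.two_not_dvd (by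
      have := Subgroup.orderOf_dvd_natCard _ hyB
      rwa [orderOf_eq_prime (by rw [pow_two, e]) hy1, h.card] at this)
    let σ : Cfsg.fittingSubgroup G ≃* Cfsg.fittingSubgroup G := MulAut.conjNormal κ
    let τ : Cfsg.fittingSubgroup G ≃* Cfsg.fittingSubgroup G := MulAut.conjNormal y
    have hfix : ∀ u ∈ B, u ≠ 1 → ∀ x : Cfsg.fittingSubgroup G, u * (x : G) * u⁻¹ = x → x = 1 :=
      fun u hu hu1 x hx => Subtype.ext (h.disjoint_fitting x.2
        (h.ca.cent u hu hu1 ▸ mem_cent.2 (mul_inv_eq_iff_eq_mul.1 hx).symm))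
    obtain ⟨x, hx⟩ := exists_twist (Nat.card (Cfsg.fittingSubgroup G)) (Cfsg.fittingSubgroup G) le_rfl hFnil σ τ
      (fun x => Subtype.ext (by
        show κ * (κ * (x : G) * κ⁻¹) * κ⁻¹ = x
        rw [hκi, show κ * (κ * (x : G) * κ) * κ = κ * κ * x * (κ * κ) by group, hκκ, one_mul, mul_one]))
      (fun x => Subtype.ext (by
        show y * (κ * (y * (x : G) * y⁻¹) * κ⁻¹) * y⁻¹ = κ * x * κ⁻¹
        have e : y * κ * y = κ := by
          rw [show y * κ * y = y * (κ * y * κ⁻¹) * κ by group, hinv, mul_inv_cancel, one_mul]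
        rw [show y * (κ * (y * (x : G) * y⁻¹) * κ⁻¹) * y⁻¹ = (y * κ * y) * x * (y * κ * y)⁻¹ by group, e]))
      (fun x hx => hfix y hyB hy1 x (congrArg Subtype.val hx))
      (fun x hx => hfix (y * y) (mul_mem hyB hyB) hy2 x (by
        refine Eq.trans ?_ (congrArg Subtype.val hx)
        show y * y * (x : G) * (y * y)⁻¹ = y * (y * x * y⁻¹) * y⁻¹
        group))
      ⟨g * κ * g⁻¹ * κ⁻¹, hg⟩ (Subtype.ext (by
        show κ * (g * κ * g⁻¹ * κ⁻¹) * κ⁻¹ = (g * κ * g⁻¹ * κ⁻¹)⁻¹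
        rw [show κ * (g * κ * g⁻¹ * κ⁻¹) * κ⁻¹ = κ * g * κ * g⁻¹ * (κ * κ)⁻¹ by group, hκκ, inv_one, mul_one,
          show (g * κ * g⁻¹ * κ⁻¹)⁻¹ = κ * g * κ⁻¹ * g⁻¹ by group, hκi]))
    refine ⟨(x : G), x.2, ?_⟩
    have e : g * κ * g⁻¹ * κ⁻¹ = (x : G)⁻¹ * (κ * x * κ⁻¹) := congrArg Subtype.val hx
    show κ * ((x : G) * g) = (x : G) * g * κ
    calc κ * ((x : G) * g) = (x : G) * ((x : G)⁻¹ * (κ * x * κ⁻¹)) * κ * g := by group
      _ = _ := by rw [← e]; group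
  -- the quotient
  obtain ⟨π, hπ⟩ : ∃ π : G →* G ⧸ Cfsg.fittingSubgroup G, π = QuotientGroup.mk' _ := ⟨_, rfl⟩
  have hker : ∀ g : G, π g = 1 ↔ g ∈ Cfsg.fittingSubgroup G := fun g => by
    rw [hπ]; exact QuotientGroup.eq_one_iff g
  have hsurj : Function.Surjective π := hπ ▸ QuotientGroup.mk'_surjective _
  have hπκ : π κ ≠ 1 := fun e => hκF ((hker κ).1 e)
  have hπκ2 : π κ * π κ = 1 := by rw [← map_mul, hκκ, map_one]
  -- commuting with `π κ`
  have hlift : ∀ g : G, Commute (π g) (π κ) → ∃ v : G, π v = π g ∧ Commute κ v := fun g hc => by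
    obtain ⟨x, hx, hxc⟩ := hcover g ((hker _).1 (by
      rw [map_mul, map_mul, map_mul, map_inv, map_inv, hc.eq, mul_inv_cancel_right, mul_inv_cancel]))
    exact ⟨x * g, by rw [map_mul, (hker x).2 hx, one_mul], hxc⟩
  have huniq : ∀ g : G, Commute (π g) (π κ) → π g * π g = 1 → π g ≠ 1 → π g = π κ := by
    intro g hc h2 h1
    obtain ⟨v, hv, hvc⟩ := hlift g hc
    obtain ⟨o, ho⟩ : ∃ o, o = orderOf v / 2 ^ (orderOf v).factorization 2 := ⟨_, rfl⟩
    have hoodd : Odd o := by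
      rw [ho, ← Nat.not_even_iff_odd, even_iff_two_dvd]
      exact Nat.not_dvd_ordCompl Nat.prime_two (orderOf_pos v).ne'
    have hfo : orderOf (v ^ o) = 2 ^ (orderOf v).factorization 2 := by
      have hd : o ∣ orderOf v := ho ▸ Nat.ordCompl_dvd _ _
      rw [orderOf_pow_of_dvd hoodd.pos.ne' hd]
      refine Nat.div_eq_of_eq_mul_left hoodd.pos ?_
      rw [ho]; exact (Nat.ordProj_mul_ordCompl_eq_self _ _).symm
    have hfπ : π (v ^ o) = π g := by
      obtain ⟨k, hk⟩ := hoodd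
      rw [map_pow, hv, hk, pow_succ, pow_mul, pow_two, h2, one_pow, one_mul]
    have hmem := hinvol (v ^ o) _ (hvc.pow_right _) hfo (fun e => h1 (hfπ ▸ (hker _).2 e))
      ((hker _).1 (by rw [map_mul, hfπ, h2]))
    have h3 := (hker _).2 hmem
    rw [map_mul, hfπ] at h3
    exact mul_left_cancel (h3.trans hπκ2.symm)
  -- the Sylow subgroup of the quotient
  obtain ⟨S, hS⟩ := (IsPGroup.of_card (n := 1) (by rw [Nat.card_zpowers, hκo, pow_one]) :
    IsPGroup 2 (zpowers κ)).exists_le_sylow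
  let T : Sylow 2 (G ⧸ Cfsg.fittingSubgroup G) := S.mapSurjective hsurj
  have hκT : π κ ∈ (T : Subgroup (G ⧸ Cfsg.fittingSubgroup G)) := ⟨κ, hS (mem_zpowers κ), rfl⟩
  have hTu : ∀ q ∈ (T : Subgroup (G ⧸ Cfsg.fittingSubgroup G)), q * q = 1 → q ≠ 1 → q = π κ := by
    haveI : Nontrivial (T : Subgroup (G ⧸ Cfsg.fittingSubgroup G)) := ⟨⟨⟨π κ, hκT⟩, 1, fun e => hπκ (congrArg Subtype.val e)⟩⟩
    haveI := T.2.center_nontrivial
    obtain ⟨k, hk, hkc⟩ := (T.2.to_subgroup (Subgroup.center (T : Subgroup (G ⧸ Cfsg.fittingSubgroup G)))).nontrivial_iff_card.1 inferInstance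
    obtain ⟨⟨⟨w, hwT⟩, hwc⟩, hw⟩ := exists_prime_orderOf_dvd_card'
      (G := Subgroup.center (T : Subgroup (G ⧸ Cfsg.fittingSubgroup G))) 2 (hkc ▸ dvd_pow_self 2 hk.ne')
    rw [Subgroup.orderOf_mk, Subgroup.orderOf_mk] at hw
    have hwcom : ∀ q ∈ (T : Subgroup (G ⧸ Cfsg.fittingSubgroup G)), Commute q w := fun q hq =>
      congrArg Subtype.val (mem_center_iff.1 hwc ⟨q, hq⟩)
    obtain ⟨g, rfl⟩ := hsurj w
    have hw1 : π g ≠ 1 := fun e => by rw [e, orderOf_one] at hw; omega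
    have hwκ : π g = π κ := huniq g (hwcom _ hκT).symm (by rw [← pow_two, ← hw, pow_orderOf_eq_one]) hw1
    intro q hq hq2 hq1
    obtain ⟨g', rfl⟩ := hsurj q
    exact huniq g' (hwκ ▸ hwcom _ hq) hq2 hq1
  have hrank : ∀ K : Subgroup (G ⧸ Cfsg.fittingSubgroup G), ¬ IsKleinFour K := by
    intro K hK
    obtain ⟨U, hU⟩ := (IsPGroup.of_card (p := 2) (n := 2) (by rw [hK.card_four]; norm_num) : IsPGroup 2 K).exists_le_sylow
    obtain ⟨q, hq⟩ := MulAction.exists_smul_eq (G ⧸ Cfsg.fittingSubgroup G) U T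
    have hsub : ∀ v : K, v ≠ 1 → (v : G ⧸ Cfsg.fittingSubgroup G) = q⁻¹ * π κ * q := fun v hv => by
      have hv2 : (v : G ⧸ Cfsg.fittingSubgroup G) * v = 1 := by
        rw [← pow_two]
        have h2 : orderOf v ∣ 2 := by
          have := Monoid.order_dvd_exponent v
          rwa [hK.exponent_two] at this
        exact congrArg Subtype.val (orderOf_dvd_iff_pow_eq_one.1 h2 : v ^ 2 = 1)
      have := hTu (q * v * q⁻¹) (by rw [← hq, Sylow.coe_subgroup_smul]; exact ⟨v, hU v.2, rfl⟩)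
        (by rw [show q * (v : G ⧸ Cfsg.fittingSubgroup G) * q⁻¹ * (q * v * q⁻¹) = q * (v * v) * q⁻¹ by group, hv2,
          mul_one, mul_inv_cancel])
        (fun e => hv (Subtype.ext (conj_eq_one_iff.1 e)))
      rw [← this]; group
    have hlt : ({1} : Finset K).card < 2 := by simp
    haveI := Fintype.ofFinite K
    obtain ⟨v, w, v1, w1, hvw⟩ : ∃ v w : K, v ≠ 1 ∧ w ≠ 1 ∧ v ≠ w := by
      have h4 : Fintype.card K = 4 := by rw [← Nat.card_eq_fintype_card]; exact hK.card_four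
      obtain ⟨v, w, u, huv, huw, hvw⟩ := Fintype.two_lt_card_iff.1 (by omega : 2 < Fintype.card K)
      by_cases e : v = 1
      · exact ⟨w, u, fun e' => huv (e.trans e'.symm), fun e' => huw (e.trans e'.symm), hvw⟩
      by_cases e' : w = 1
      · exact ⟨v, u, e, fun e'' => hvw (e'.trans e''.symm), huw⟩
      exact ⟨v, w, e, e', huv⟩
    exact hvw (Subtype.ext ((hsub v v1).trans (hsub w w1).symm))
  obtain ⟨z, hz, N, hN, hNodd, hzN⟩ := Cfsg.Agent.S0225.result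
    (even_iff_two_dvd.2 ((orderOf_eq_prime (by rw [pow_two, hπκ2]) hπκ).symm ▸ orderOf_dvd_natCard (π κ))) hrank
  haveI := hN
  have hκN' : ∀ q, π κ * q * (π κ)⁻¹ * q⁻¹ ∈ N := by
    obtain ⟨U, hU⟩ := (IsPGroup.of_card (n := 1) (by rw [Nat.card_zpowers, hz, pow_one]) :
      IsPGroup 2 (zpowers z)).exists_le_sylow
    obtain ⟨r, hr⟩ := MulAction.exists_smul_eq (G ⧸ Cfsg.fittingSubgroup G) U T
    have hrz : r * z * r⁻¹ = π κ := hTu _ (by rw [← hr, Sylow.coe_subgroup_smul]; exact ⟨z, hU (mem_zpowers z), rfl⟩)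
      (by rw [show r * z * r⁻¹ * (r * z * r⁻¹) = r * (z * z) * r⁻¹ by group,
        show z * z = 1 by rw [← pow_two, ← hz, pow_orderOf_eq_one], mul_one, mul_inv_cancel])
      (fun e => by rw [conj_eq_one_iff] at e; rw [e, orderOf_one] at hz; omega)
    intro q
    have := hN.conj_mem _ (hzN (r⁻¹ * q * r)) r
    rw [← hrz]
    convert this using 1
    group
  -- the quotient by `N` is a `2`-group
  have hp : IsPGroup 2 ((G ⧸ Cfsg.fittingSubgroup G) ⧸ N) := by
    intro r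
    induction r using QuotientGroup.induction_on with
    | _ q =>
      obtain ⟨n, hn⟩ : ∃ n, n = q * π κ * q⁻¹ * (π κ)⁻¹ := ⟨_, rfl⟩
      have hnN : n ∈ N := by
        have := inv_mem (hκN' q)
        convert this using 1
        rw [hn]; group
      obtain ⟨k, hk⟩ := (hNodd.of_dvd_nat (Subgroup.orderOf_dvd_natCard _ hnN) : Odd (orderOf n))
      have hκi' : (π κ)⁻¹ = π κ := inv_eq_of_mul_eq_one_right hπκ2
      have hninv : π κ * n * (π κ)⁻¹ = n⁻¹ := by
        rw [hn, show π κ * (q * π κ * q⁻¹ * (π κ)⁻¹) * (π κ)⁻¹ = π κ * q * π κ * q⁻¹ * (π κ * π κ)⁻¹ by group,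
          hπκ2, inv_one, mul_one,
          show (q * π κ * q⁻¹ * (π κ)⁻¹)⁻¹ = π κ * q * (π κ)⁻¹ * q⁻¹ by group, hκi']
      have hm : n ^ (k + 1) * π κ * (n ^ (k + 1))⁻¹ * (π κ)⁻¹ = n := by
        rw [show n ^ (k + 1) * π κ * (n ^ (k + 1))⁻¹ * (π κ)⁻¹ = n ^ (k + 1) * (π κ * (n ^ (k + 1))⁻¹ * (π κ)⁻¹) by group,
          ← inv_pow, ← conj_pow, show π κ * n⁻¹ * (π κ)⁻¹ = (π κ * n * (π κ)⁻¹)⁻¹ by group, hninv, inv_inv,
          ← pow_add, show k + 1 + (k + 1) = orderOf n + 1 by omega, pow_succ, pow_orderOf_eq_one, one_mul]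
      obtain ⟨g, hg⟩ := hsurj ((n ^ (k + 1))⁻¹ * q)
      have hcom : Commute (π g) (π κ) := by
        rw [hg]
        refine mul_inv_eq_iff_eq_mul.1 ?_
        calc (n ^ (k + 1))⁻¹ * q * π κ * ((n ^ (k + 1))⁻¹ * q)⁻¹
            = (n ^ (k + 1))⁻¹ * (q * π κ * q⁻¹ * (π κ)⁻¹) * π κ * n ^ (k + 1) := by group
          _ = (n ^ (k + 1))⁻¹ * (n ^ (k + 1) * π κ * (n ^ (k + 1))⁻¹ * (π κ)⁻¹) * π κ * n ^ (k + 1) := by
            rw [← hn, hm]
          _ = π κ := by group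
      obtain ⟨v, hv, hvc⟩ := hlift g hcom
      obtain ⟨j, hj⟩ := hodd v hvc
      refine ⟨j, ?_⟩
      have hq : (q : (G ⧸ Cfsg.fittingSubgroup G) ⧸ N) = (π v : (G ⧸ Cfsg.fittingSubgroup G) ⧸ N) := by
        rw [hv, hg]
        refine QuotientGroup.eq.2 ?_
        have := hN.conj_mem _ (inv_mem (pow_mem hnN (k + 1))) q⁻¹
        convert this using 1
        group
      rw [hq, ← QuotientGroup.mk_pow, ← map_pow, (hker _).2 hj]
      rfl
  haveI := Cfsg.Agent.S0205.result hNodd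
  haveI := hp.isNilpotent
  haveI : Group.IsSolvable (G ⧸ Cfsg.fittingSubgroup G) :=
    Group.isSolvable_of_ker_le_range N.subtype (QuotientGroup.mk' N) (by simp)
  exact h.nsol (Group.isSolvable_of_ker_le_range (Cfsg.fittingSubgroup G).subtype
    (QuotientGroup.mk' (Cfsg.fittingSubgroup G)) (by simp))

end Cfsg.Lib.ConjRankThree.Conf
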