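import Mathlib
import Cfsg.Agent.S0032

/-!
# Fixed points of commuting involutory automorphisms

Elementary facts on an abelian normal subgroup `W`, and the solution of `d = x⁻¹ σ(x)` for the elements
inverted by an involution `σ` which inverts a fixed point free automorphism of odd order.
-/

set_option autoImplicit false
set_option linter.style.haveILetI false
set_option linter.unusedSectionVars false

open Subgroup

namespace Cfsg.Lib.ConjRankThree

universe u

variable {G : Type u} [Group G]

/-- An involutory and an odd automorphism with the same fixed points on an elementary abelian `2`-group. -/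
theorem mem_centralizer_of_same_fixed_two {W : Subgroup G} [hW : W.Normal]
    (hc : ∀ x ∈ W, ∀ y ∈ W, x * y = y * x) (h2 : ∀ x ∈ W, x * x = 1) {κ e : G} (hk : Odd (orderOf κ))
    (hke : Commute κ e) (he : e * e ∈ centralizer (W : Set G))
    (hfix : ∀ x ∈ W, Commute e x ↔ Commute κ x) : κ ∈ centralizer (W : Set G) := by
  refine mem_centralizer_iff.2 fun v hv => ?_
  obtain ⟨cj, hcj⟩ : ∃ cj : G → G → G, ∀ g x, cj g x = g * x * g⁻¹ := ⟨_, fun _ _ => rfl⟩
  have hmem : ∀ g x : G, x ∈ W → cj g x ∈ W := fun g x hx => by rw [hcj]; exact hW.conj_mem x hx g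
  have hcomm : ∀ {g x : G}, Commute g x ↔ cj g x = x := fun {g x} => by
    rw [hcj, mul_inv_eq_iff_eq_mul]; exact Iff.rfl
  have hee : ∀ x ∈ W, cj e (cj e x) = x := fun x hx => by
    rw [hcj, hcj, show e * (e * x * e⁻¹) * e⁻¹ = e * e * x * (e * e)⁻¹ by group, mul_inv_eq_iff_eq_mul]
    exact (mem_centralizer_iff.1 he x hx).symm
  have hmul : ∀ g x y, cj g (x * y) = cj g x * cj g y := fun g x y => by rw [hcj, hcj, hcj]; group
  have hsw : ∀ x, cj κ (cj e x) = cj e (cj κ x) := fun x => by
    rw [hcj, hcj, hcj, hcj, show κ * (e * x * e⁻¹) * κ⁻¹ = κ * e * x * (κ * e)⁻¹ by group, hke.eq]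
    group
  have hue : cj e (v * cj e v) = v * cj e v := by rw [hmul, hee v hv, hc _ (hmem e v hv) _ hv]
  have huk : cj κ (v * cj e v) = v * cj e v :=
    hcomm.1 ((hfix _ (mul_mem hv (hmem e v hv))).1 (hcomm.2 hue))
  rw [hmul, hsw] at huk
  have hd : cj κ v * v ∈ W := mul_mem (hmem κ v hv) hv
  have hde : cj e (cj κ v * v) = cj κ v * v := by
    rw [hmul]
    calc cj e (cj κ v) * cj e v = cj κ v * cj κ v * (cj e (cj κ v) * cj e v) := by
          rw [h2 _ (hmem κ v hv), one_mul]
      _ = cj κ v * (cj κ v * cj e (cj κ v)) * cj e v := by group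
      _ = cj κ v * (v * cj e v) * cj e v := by rw [huk]
      _ = cj κ v * v * (cj e v * cj e v) := by group
      _ = _ := by rw [h2 _ (hmem e v hv), mul_one]
  have hdk := hcomm.1 ((hfix _ hd).1 (hcomm.2 hde))
  rw [hmul, hc (cj κ v) (hmem κ v hv) v hv] at hdk
  have h3 : cj κ (cj κ v) = v := by
    have := congrArg (· * cj κ v) hdk
    rw [mul_assoc, h2 _ (hmem κ v hv), mul_one, mul_assoc, h2 _ (hmem κ v hv), mul_one] at this
    exact this
  have hsq : Commute (κ * κ) v := hcomm.2 (by
    rw [hcj, show κ * κ * v * (κ * κ)⁻¹ = κ * (κ * v * κ⁻¹) * κ⁻¹ by group, ← hcj, ← hcj, h3])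
  obtain ⟨k, hk'⟩ := hk
  have : Commute κ v := by
    have h4 := hsq.pow_left (k + 1)
    rwa [← pow_two, ← pow_mul, show 2 * (k + 1) = orderOf κ + 1 by omega, pow_succ, pow_orderOf_eq_one,
      one_mul] at h4
  exact this.eq.symm

/-- Two commuting involutory automorphisms with the same fixed points on an abelian group of odd order. -/
theorem mem_centralizer_of_same_fixed_odd [Finite G] {W : Subgroup G} [hW : W.Normal]
    (hc : ∀ x ∈ W, ∀ y ∈ W, x * y = y * x) (hodd : Odd (Nat.card W)) {e f : G}
    (hef : Commute e f) (he : e * e ∈ centralizer (W : Set G))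
    (hff : f * f ∈ centralizer (W : Set G))
    (hf : ∀ x ∈ W, Commute f x → Commute e x) (hp : ∀ x ∈ W, Commute (e * f) x → Commute e x) :
    e ∈ centralizer (W : Set G) := by
  refine mem_centralizer_iff.2 fun v hv => ?_
  obtain ⟨cj, hcj⟩ : ∃ cj : G → G → G, ∀ g x, cj g x = g * x * g⁻¹ := ⟨_, fun _ _ => rfl⟩
  have hmem : ∀ g x : G, x ∈ W → cj g x ∈ W := fun g x hx => by rw [hcj]; exact hW.conj_mem x hx g
  have hcomm : ∀ {g x : G}, Commute g x ↔ cj g x = x := fun {g x} => by
    rw [hcj, mul_inv_eq_iff_eq_mul]; exact Iff.rfl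
  have hinv : ∀ g, g * g ∈ centralizer (W : Set G) → ∀ x ∈ W, cj g (cj g x) = x := fun g hg x hx => by
    rw [hcj, hcj, show g * (g * x * g⁻¹) * g⁻¹ = g * g * x * (g * g)⁻¹ by group, mul_inv_eq_iff_eq_mul]
    exact (mem_centralizer_iff.1 hg x hx).symm
  have hmul : ∀ g x y, cj g (x * y) = cj g x * cj g y := fun g x y => by rw [hcj, hcj, hcj]; group
  have hsw : ∀ x, cj f (cj e x) = cj e (cj f x) := fun x => by
    rw [hcj, hcj, hcj, hcj, show f * (e * x * e⁻¹) * f⁻¹ = f * e * x * (f * e)⁻¹ by group, ← hef.eq]
    group
  have hprod : ∀ x, cj (e * f) x = cj e (cj f x) := fun x => by rw [hcj, hcj, hcj]; group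
  -- `v (f v)` and `v (e f v)` are fixed by `e`
  have hB : cj e (v * cj f v) = v * cj f v := hcomm.1 (hf _ (mul_mem hv (hmem f v hv)) (hcomm.2 (by
    rw [hmul, hinv f hff v hv, hc _ (hmem f v hv) _ hv])))
  have hC : cj e (v * cj e (cj f v)) = v * cj e (cj f v) := by
    refine hcomm.1 (hp _ (mul_mem hv (hmem e _ (hmem f v hv))) (hcomm.2 ?_))
    rw [hprod, hmul, hmul, hsw (cj f v), hinv f hff v hv, hinv e he v hv,
      hc (cj e (cj f v)) (hmem e _ (hmem f v hv)) v hv]
  rw [hmul] at hB hC
  rw [hinv e he _ (hmem f v hv)] at hC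
  have hsq : cj e (cj f v) * cj e (cj f v) = cj f v * cj f v := by
    have h1 : cj e v * cj e (cj f v) * (v * cj e (cj f v)) = v * cj f v * (cj e v * cj f v) := by
      rw [hB, hC]
    have hx := hmem e v hv
    have hy := hmem e _ (hmem f v hv)
    have hz := hmem f v hv
    refine mul_left_cancel (a := cj e v * v) ?_
    calc cj e v * v * (cj e (cj f v) * cj e (cj f v))
        = cj e v * (v * cj e (cj f v)) * cj e (cj f v) := by group
      _ = cj e v * (cj e (cj f v) * v) * cj e (cj f v) := by rw [hc v hv _ hy]
      _ = cj e v * cj e (cj f v) * (v * cj e (cj f v)) := by group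
      _ = v * cj f v * (cj e v * cj f v) := h1
      _ = v * (cj f v * cj e v) * cj f v := by group
      _ = v * (cj e v * cj f v) * cj f v := by rw [hc _ hz _ hx]
      _ = v * cj e v * (cj f v * cj f v) := by group
      _ = _ := by rw [hc v hv _ hx]
  have heq : cj e (cj f v) = cj f v := by
    have hco : (Nat.card W).Coprime 2 := Nat.coprime_two_right.2 hodd
    exact congrArg Subtype.val ((powCoprime hco).injective (a₁ := ⟨_, hmem e _ (hmem f v hv)⟩)
      (a₂ := ⟨_, hmem f v hv⟩) (Subtype.ext (by simpa [pow_two] using hsq)))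
  have h5 : cj e v = v := by
    rw [← hinv f hff _ (hmem e v hv), hsw, heq, hinv f hff v hv]
  exact (hcomm.2 h5).eq.symm

/-- Every element inverted by `σ` has the form `x⁻¹ σ(x)`. -/
theorem exists_twist : ∀ (n : ℕ) (M : Type u) [Group M] [Finite M], Nat.card M ≤ n → Group.IsNilpotent M →
    ∀ σ τ : M ≃* M, (∀ x, σ (σ x) = x) → (∀ x, τ (σ (τ x)) = σ x) →
      MonoidHom.FixedPointFree (τ : M →* M) → MonoidHom.FixedPointFree ((τ.trans τ : M ≃* M) : M →* M) →
      ∀ d, σ d = d⁻¹ → ∃ x, d = x⁻¹ * σ x := by
  classical
  intro n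
  induction n with
  | zero => intro M _ _ hn; exact absurd (Nat.card_pos (α := M)) (by omega)
  | succ n ih =>
    intro M _ _ hn hnil σ τ hσ hτ hf hf2 d hd
    by_cases hab : center M = ⊤
    · have hc : ∀ x y : M, x * y = y * x := fun x y => mem_center_iff.1 (hab ▸ mem_top y) x
      let I : M →* M :=
        { toFun := fun x => x⁻¹ * σ x
          map_one' := by simp
          map_mul' := fun x y => by
            rw [_root_.mul_inv_rev, map_mul, hc y⁻¹ x⁻¹]
            calc x⁻¹ * y⁻¹ * (σ x * σ y) = x⁻¹ * (y⁻¹ * σ x) * σ y := by group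
              _ = x⁻¹ * (σ x * y⁻¹) * σ y := by rw [hc y⁻¹ (σ x)]
              _ = _ := by group }
      let C : Subgroup M := I.ker
      let A : Subgroup M :=
        { carrier := {x | σ x = x⁻¹}
          one_mem' := by simp
          mul_mem' := fun {x y} hx hy => by
            show σ (x * y) = (x * y)⁻¹
            rw [map_mul, hx, hy, _root_.mul_inv_rev, hc y⁻¹ x⁻¹]
          inv_mem' := fun {x} hx => by
            show σ x⁻¹ = x⁻¹⁻¹
            rw [map_inv, hx] }
      have hC : ∀ x, x ∈ C ↔ σ x = x := fun x => by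
        rw [MonoidHom.mem_ker]
        show x⁻¹ * σ x = 1 ↔ _
        rw [inv_mul_eq_one, eq_comm]
      -- a subgroup on which `σ` is a sign meets its image under `τ` trivially
      have hsmall : ∀ X : Subgroup M, (∀ x ∈ X, ∀ z ∈ X, τ x = z → x = 1) → Nat.card X * Nat.card X ≤ Nat.card M := by
        intro X hX
        rw [← Nat.card_prod]
        refine Nat.card_le_card_of_injective (fun p => (p.1 : M) * τ p.2) ?_
        rintro ⟨x, y⟩ ⟨x', y'⟩ e
        simp only at e
        have e' : τ ((y : M) * (y' : M)⁻¹) = (x : M)⁻¹ * x' := by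
          rw [map_mul, map_inv, ← mul_inv_eq_iff_eq_mul.2 (rfl : τ (y : M) * (1:M) = τ (y:M) * 1)]
          simp only [mul_one]
          have e2 : τ (y : M) = (x : M)⁻¹ * ((x' : M) * τ y') := by rw [← e, inv_mul_cancel_left]
          rw [e2]; group
        have h1 := hX _ (mul_mem y.2 (inv_mem y'.2)) _ (mul_mem (inv_mem x.2) x'.2) e'
        have hy : y = y' := Subtype.ext (mul_inv_eq_one.1 h1)
        subst hy
        exact Prod.ext (Subtype.ext (mul_right_cancel e)) rfl
      have hCC : Nat.card C * Nat.card C ≤ Nat.card M := hsmall C fun x hx z hz e => by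
        rw [hC] at hx hz
        refine hf2 x ?_
        show τ (τ x) = x
        have := hτ x
        rw [hx, e, hz] at this
        rw [e]; exact this
      have hAA : Nat.card A * Nat.card A ≤ Nat.card M := hsmall A fun x hx z hz e => by
        have hx' : σ x = x⁻¹ := hx
        have hz' : σ z = z⁻¹ := hz
        refine hf2 x ?_
        show τ (τ x) = x
        have := hτ x
        rw [hx', e, hz', map_inv] at this
        rw [e]; exact inv_injective this
      have hIA : I.range ≤ A := by
        rintro _ ⟨x, rfl⟩
        show σ (x⁻¹ * σ x) = (x⁻¹ * σ x)⁻¹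
        rw [map_mul, map_inv, hσ, _root_.mul_inv_rev, inv_inv]
      have hcard : Nat.card I.range * Nat.card C = Nat.card M := by
        rw [← Nat.card_congr (QuotientGroup.quotientKerEquivRange I).toEquiv, ← Subgroup.index, index_mul_card]
      have he : I.range = A := by
        refine eq_of_le_of_card_ge hIA ?_
        by_contra hlt
        push Not at hlt
        have hi : 0 < Nat.card I.range := Nat.card_pos
        have h1 : Nat.card I.range * Nat.card I.range < Nat.card M :=
          lt_of_lt_of_le (Nat.mul_self_lt_mul_self hlt) hAA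
        nlinarith
      obtain ⟨x, hx⟩ := he.ge (show d ∈ A from hd)
      exact ⟨x, hx.symm⟩
    · have hne : center M ≠ ⊥ := fun e => by
        haveI := hnil
        haveI : Nontrivial M := by
          by_contra hnt
          rw [not_nontrivial_iff_subsingleton] at hnt
          exact hab (Subsingleton.elim _ _)
        obtain ⟨k, hk⟩ := Group.IsNilpotent.nilpotent (G := M)
        have hz : ∀ i, Subgroup.upperCentralSeries M i = ⊥ := by
          intro i
          induction i with
          | zero => exact Subgroup.upperCentralSeries_zero M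
          | succ i ihi =>
            rw [eq_bot_iff]
            intro x hx
            have hx' : x ∈ center M := mem_center_iff.2 fun g => by
              have := Subgroup.mem_upperCentralSeries_succ_iff.1 hx g
              rw [ihi, mem_bot, commutatorElement_def, mul_inv_eq_one, mul_inv_eq_iff_eq_mul] at this
              exact this.symm
            rwa [e] at hx'
        exact bot_ne_top ((hz k).symm.trans hk)
      have hmapc : ∀ ρ : M ≃* M, (center M).map (ρ : M →* M) = center M := fun ρ => by
        refine le_antisymm ?_ fun x hx => ⟨ρ.symm x, ?_, by simp⟩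
        · rintro _ ⟨x, hx, rfl⟩
          refine mem_center_iff.2 fun g => ?_
          have := congrArg ρ (mem_center_iff.1 hx (ρ.symm g))
          simpa using this
        · refine mem_center_iff.2 fun g => ?_
          have := congrArg ρ.symm (mem_center_iff.1 hx (ρ g))
          simpa using this
      let σ' := QuotientGroup.congr (center M) (center M) σ (hmapc σ)
      let τ' := QuotientGroup.congr (center M) (center M) τ (hmapc τ)
      have hfix : ∀ ρ : M ≃* M, MonoidHom.FixedPointFree (ρ : M →* M) →
          ∀ x : M, (ρ x : M ⧸ center M) = x → (x : M ⧸ center M) = 1 := fun ρ hρ x e =>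
        (QuotientGroup.eq_one_iff x).2 (Cfsg.Agent.S0032.result ρ hρ (center M)
          (fun z hz => hmapc ρ ▸ mem_map_of_mem _ hz) x (QuotientGroup.eq.1 e))
      have hlt : Nat.card (M ⧸ center M) ≤ n := by
        have h1 : 1 < Nat.card (center M) := (one_lt_card_iff_ne_bot _).2 hne
        have h2 := (center M).index_mul_card
        rw [Subgroup.index] at h2
        have h3 : 0 < Nat.card (M ⧸ center M) := Nat.card_pos
        nlinarith
      haveI := hnil
      obtain ⟨q, hq⟩ := ih (M ⧸ center M) hlt inferInstance σ' τ'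
        (fun q => by
          induction q using QuotientGroup.induction_on with
          | _ x => exact congrArg QuotientGroup.mk (hσ x))
        (fun q => by
          induction q using QuotientGroup.induction_on with
          | _ x => exact congrArg QuotientGroup.mk (hτ x))
        (fun q => by
          induction q using QuotientGroup.induction_on with
          | _ x => exact fun e => hfix τ hf x e)
        (fun q => by
          induction q using QuotientGroup.induction_on with
          | _ x => exact fun e => hfix (τ.trans τ) hf2 x e)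
        (d : M ⧸ center M) (congrArg QuotientGroup.mk hd)
      obtain ⟨x, rfl⟩ := QuotientGroup.mk_surjective q
      obtain ⟨z, hz⟩ : ∃ z : center M, (z : M) = x * d * (σ x)⁻¹ := by
        refine ⟨⟨x * d * (σ x)⁻¹, ?_⟩, rfl⟩
        rw [← QuotientGroup.eq_one_iff, QuotientGroup.mk_mul, QuotientGroup.mk_mul, QuotientGroup.mk_inv, hq,
          mul_inv_cancel_left]
        exact mul_inv_cancel _
      let σc : center M ≃* center M := (σ.subgroupMap (center M)).trans (MulEquiv.subgroupCongr (hmapc σ))
      let τc : center M ≃* center M := (τ.subgroupMap (center M)).trans (MulEquiv.subgroupCongr (hmapc τ))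
      have hclt : Nat.card (center M) ≤ n := by
        have := lt_of_le_of_ne (card_le_card_group (center M)) (fun e => hab (eq_top_of_card_eq _ e))
        omega
      obtain ⟨w, hw⟩ := ih (center M) hclt inferInstance σc τc (fun w => Subtype.ext (hσ w))
        (fun w => Subtype.ext (hτ w))
        (fun w e => Subtype.ext (hf w (congrArg Subtype.val e)))
        (fun w e => Subtype.ext (hf2 w (congrArg Subtype.val e))) z (Subtype.ext (by
          show σ (z : M) = ((z : M))⁻¹
          rw [hz, map_mul, map_mul, map_inv, hσ, hd]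
          group))
      refine ⟨(w : M) * x, ?_⟩
      have hw' : (z : M) = (w : M)⁻¹ * σ (w : M) := congrArg Subtype.val hw
      calc d = x⁻¹ * (x * d * (σ x)⁻¹) * σ x := by group
        _ = x⁻¹ * ((w : M)⁻¹ * σ (w : M)) * σ x := by rw [← hz, hw']
        _ = _ := by rw [map_mul]; group

end Cfsg.Lib.ConjRankThree
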