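import Cfsg.Agent.Lib.ConjRankThree.Centreless.Count
import Cfsg.Agent.Lib.Invol.AbelianCentralizers.Basic
import Cfsg.Agent.Lib.ConjRankThree.Centreless.Fixed

/-!
# The Fitting subgroup

It has order prime to `b`, contains its centraliser, and all elements of type `a` are central in it.
-/

set_option autoImplicit false
set_option linter.style.haveILetI false
set_option linter.unusedSectionVars false

open Subgroup Cfsg.Lib.Char Cfsg.Lib.Char.CAEven

namespace Cfsg.Lib.ConjRankThree.Conf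

universe u

variable {G : Type u} [Group G] [Fintype G] {B : Subgroup G} {a b c : ℕ} (h : Conf G B a b c)

include h

theorem conj_mem_B {p : ℕ} [Fact p.Prime] (hpb : p ∣ b) :
    ∃ P : Sylow p G, (P : Subgroup G) ≤ B := by
  refine exists_sylow_le_of_full (H := B) ?_
  have hd : p ^ (Nat.card G).factorization p ∣ a * b := by
    rw [← h.card_G]; exact Nat.ordProj_dvd _ _
  show p ^ _ ∣ Nat.card B
  rw [h.card]
  exact ((h.coprime.coprime_dvd_right hpb).symm.pow_left _).dvd_mul_left.1 hd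

theorem fitting_coprime : (Nat.card (Cfsg.fittingSubgroup G)).Coprime b := by
  refine Nat.coprime_of_dvd fun p hp hpF hpb => ?_
  haveI := Fact.mk hp
  obtain ⟨⟨x, hx⟩, hxo⟩ := exists_prime_orderOf_dvd_card' (G := Cfsg.fittingSubgroup G) p hpF
  rw [Subgroup.orderOf_mk] at hxo
  have hx1 : x ≠ 1 := fun e => hp.one_lt.ne (by rw [← hxo, e, orderOf_one])
  have hxp := Cfsg.Lib.Fusion.mem_pCore_of_mem_fitting hx ⟨1, by rw [hxo, pow_one]⟩
  obtain ⟨P, hP⟩ := h.conj_mem_B hpb
  haveI hn : (Cfsg.pCore p G).Normal := sSup_normal _ fun _ h' => h'.1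
  obtain ⟨T, hT⟩ := (Cfsg.Lib.Fusion.pCore_isPGroup (G := G) p).exists_le_sylow
  obtain ⟨g, hg⟩ := MulAction.exists_smul_eq G T P
  have hle : Cfsg.pCore p G ≤ B := fun o ho => hP (by
    rw [← hg, Sylow.coe_subgroup_smul]
    exact ⟨g⁻¹ * o * g, hT (by simpa using hn.conj_mem o ho g⁻¹), by simp [mul_assoc]⟩)
  exact h.not_normal ⟨fun w hw g =>
    (mem_normalizer_iff.1 (h.ca.ti (hle hxp) hx1 (hle (hn.conj_mem x hxp g))) w).1 hw⟩

theorem le_fitting {N : Subgroup G} [N.Normal] (hN : (Nat.card N).Coprime b) : N ≤ Cfsg.fittingSubgroup G :=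
  Cfsg.Lib.Core.le_fittingSubgroup (h.nilpotent_of_coprime hN)

theorem centralizer_le {V : Subgroup G} [V.Normal] (hV : (Nat.card V).Coprime b) (hV1 : V ≠ ⊥) :
    centralizer (V : Set G) ≤ Cfsg.fittingSubgroup G := by
  refine h.le_fitting (Nat.coprime_of_dvd fun p hp hpC hpb => ?_)
  haveI := Fact.mk hp
  obtain ⟨⟨x, hx⟩, hxo⟩ := exists_prime_orderOf_dvd_card' (G := centralizer (V : Set G)) p hpC
  rw [Subgroup.orderOf_mk] at hxo
  have hx1 : x ≠ 1 := fun e => hp.one_lt.ne (by rw [← hxo, e, orderOf_one])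
  obtain ⟨U, hU⟩ := (IsPGroup.of_card (n := 1) (by rw [Nat.card_zpowers, hxo, pow_one]) :
    IsPGroup p (zpowers x)).exists_le_sylow
  obtain ⟨P, hP⟩ := h.conj_mem_B hpb
  obtain ⟨g, hg⟩ := MulAction.exists_smul_eq G U P
  have hxB : g * x * g⁻¹ ∈ B := hP (by
    rw [← hg, Sylow.coe_subgroup_smul]; exact ⟨x, hU (mem_zpowers x), rfl⟩)
  refine hV1 (le_bot_iff.1 ((le_inf le_rfl fun v hv => ?_).trans (h.disjoint_of_coprime hV).le))
  rw [← h.ca.cent _ hxB (fun e => hx1 (conj_eq_one_iff.1 e))]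
  refine mem_cent.2 ?_
  have h1 : Commute (g⁻¹ * v * g) x :=
    mem_centralizer_iff.1 hx _ (by simpa using (inferInstance : V.Normal).conj_mem v hv g⁻¹)
  simpa [mul_assoc] using h1.map (MulAut.conj g).toMonoidHom

theorem fitting_ne_bot : Cfsg.fittingSubgroup G ≠ ⊥ := by
  obtain ⟨V, hVn, hV1, -, hVb⟩ := h.exists_abelian_normal
  haveI := hVn
  exact fun e => hV1 (eq_bot_iff.2 (e ▸ h.le_fitting hVb))

theorem centralizer_fitting :
    centralizer (Cfsg.fittingSubgroup G : Set G) ≤ Cfsg.fittingSubgroup G := by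
  haveI := Cfsg.Lib.Core.fittingSubgroup_normal' G
  exact h.centralizer_le h.fitting_coprime h.fitting_ne_bot

theorem disjoint_fitting {u : G} (hu : u ∈ Cfsg.fittingSubgroup G) (huB : u ∈ B) : u = 1 := by
  have : u ∈ Cfsg.fittingSubgroup G ⊓ B := ⟨hu, huB⟩
  rwa [h.disjoint_of_coprime h.fitting_coprime, mem_bot] at this

/-- Elements of type `a` are central in the Fitting subgroup. -/
theorem typeA {x : G} (hx : val x = a) :
    x ∈ centralizer (Cfsg.fittingSubgroup G : Set G) := by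
  have hle : Cfsg.fittingSubgroup G ≤ centralizer ({x} : Set G) := le_of_primePow fun p hp w hw j hj => by
    rcases eq_or_ne w 1 with rfl | hw1
    · exact one_mem _
    have hpF : p ∣ Nat.card (Cfsg.fittingSubgroup G) := by
      refine dvd_trans ?_ (Subgroup.orderOf_dvd_natCard _ hw)
      rcases j with _ | j
      · exact absurd (orderOf_eq_one_iff.1 (by rw [hj, pow_zero])) hw1
      · exact hj ▸ dvd_pow_self p j.succ_ne_zero
    have hpG : p ∣ Nat.card G := hpF.trans (card_subgroup_dvd_card _)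
    have hfull : Full G p (Nat.card (centralizer ({x} : Set G))) := by
      show Full G p (val x)
      rw [hx]
      refine (h.three.full_or hpG).resolve_right fun hf => ?_
      have hpb : p ∣ b := (dvd_pow_self p (hp.out.factorization_pos_of_dvd Nat.card_pos.ne' hpG).ne').trans hf
      exact hp.out.not_dvd_one (h.fitting_coprime ▸ Nat.dvd_gcd hpF hpb)
    obtain ⟨P, hP⟩ := exists_sylow_le_of_full hfull
    haveI hn : (Cfsg.pCore p G).Normal := sSup_normal _ fun _ h' => h'.1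
    obtain ⟨T, hT⟩ := (Cfsg.Lib.Fusion.pCore_isPGroup (G := G) p).exists_le_sylow
    obtain ⟨g, hg⟩ := MulAction.exists_smul_eq G T P
    refine hP ?_
    rw [← hg, Sylow.coe_subgroup_smul]
    exact ⟨g⁻¹ * w * g, hT (by simpa using hn.conj_mem w (Cfsg.Lib.Fusion.mem_pCore_of_mem_fitting hw ⟨j, hj⟩) g⁻¹),
      by simp [mul_assoc]⟩
  exact mem_centralizer_iff.2 fun w hw => (mem_cent.1 (hle hw)).eq

/-- The type outside the Fitting subgroup, for orders prime to `b`. -/
theorem typeC {x : G} (hx : x ∉ Cfsg.fittingSubgroup G) (ho : (orderOf x).Coprime b) : val x = c := by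
  have hx1 : x ≠ 1 := fun e => hx (e ▸ one_mem _)
  rcases h.three.cases x hx1 with e | e | e
  · exact absurd (h.centralizer_fitting (h.typeA e)) hx
  · exact absurd (orderOf_eq_one_iff.1 (Nat.eq_one_of_dvd_coprimes ho dvd_rfl
      (e ▸ Subgroup.orderOf_dvd_natCard _ (self_mem x)))) hx1
  · exact e

/-- A centraliser of type `c` centralises the commuting elements of coprime order. -/
theorem cent_le {g v : G} (hg : val g = c) (hg1 : g ≠ 1) (hgv : Commute g v)
    (hco : (orderOf g).Coprime (orderOf v)) :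
    centralizer ({g} : Set G) ≤ centralizer ({v} : Set G) := by
  have hle := cent_mul_le hgv hco
  have hd : val (g * v) ∣ c := hg ▸ val_dvd (hle.trans inf_le_left)
  have hval : val (g * v) = c := by
    rcases h.three.cases _ (mul_ne_one hg1 hco) with e | e | e
    · exact absurd (e ▸ hd) h.three.nac
    · exact absurd (e ▸ hd) h.three.nbc
    · exact e
  rw [← eq_of_le_of_val (hle.trans inf_le_left) (hval.trans hg.symm)]
  exact hle.trans inf_le_right

theorem cent_eq {g v : G} (hg : val g = c) (hg1 : g ≠ 1) (hv : val v = c) (hgv : Commute g v)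
    (hco : (orderOf g).Coprime (orderOf v)) :
    centralizer ({g} : Set G) = centralizer ({v} : Set G) :=
  eq_of_le_of_val (h.cent_le hg hg1 hgv hco) (hg.trans hv.symm)

theorem val_ne_b {x : G} {p i : ℕ} (hp : p.Prime) (hpb : ¬ p ∣ b) (hx : orderOf x = p ^ i) :
    (orderOf x).Coprime b := by
  rw [hx]; exact ((hp.coprime_iff_not_dvd).2 hpb).pow_left i

/-- The involutory part: `2` does not divide `b`. -/
theorem two_not_dvd : ¬ 2 ∣ b := by
  intro h2
  haveI : Fact (Nat.Prime 2) := ⟨Nat.prime_two⟩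
  obtain ⟨S, hS⟩ := h.conj_mem_B h2
  obtain ⟨V, hVn, hV1, -, hVb⟩ := h.exists_abelian_normal
  haveI := hVn
  haveI : IsMulCommutative B := ⟨⟨fun p q => Subtype.ext (h.ca.comm p p.2 q q.2)⟩⟩
  haveI : IsCyclic B := Cfsg.Lib.ComplementStructure.isCyclic_of_abelian (H := B) hV1 (fun u hu hu1 => by
    refine eq_bot_iff.2 fun v hv => mem_bot.2 ?_
    exact h.disjoint_fitting (h.le_fitting hVb hv.1) (h.ca.cent u hu hu1 ▸ hv.2)) B le_rfl
  exact Cfsg.Lib.GW.not_isCyclic_sylow h.nsol S (isCyclic_of_injective (inclusion hS) (inclusion_injective hS))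

omit h in
/-- The elements of `Z(F)` killed by `2`. -/
theorem exists_omega (p : ℕ) [Fact p.Prime] {D : Subgroup G} [hD : D.Normal] (hne : D ≠ ⊥) (hDp : IsPGroup p D) :
    ∃ W : Subgroup G, W.Normal ∧ W ≠ ⊥ ∧ W ≤ D ∧ (∀ x ∈ W, ∀ y ∈ W, x * y = y * x) ∧
      (∀ x ∈ W, x ^ p = 1) ∧ ∀ x ∈ W, ∀ d ∈ D, x * d = d * x := by
  let W : Subgroup G :=
    { carrier := {x | x ∈ D ∧ (∀ d ∈ D, x * d = d * x) ∧ x ^ p = 1}
      one_mem' := ⟨one_mem D, fun d _ => by simp, one_pow p⟩
      mul_mem' := by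
        rintro x y ⟨hx, hxc, hxp⟩ ⟨hy, hyc, hyp⟩
        refine ⟨mul_mem hx hy, fun d hd => ?_, by
          rw [(show Commute x y from hxc y hy).mul_pow, hxp, hyp, one_mul]⟩
        rw [mul_assoc, hyc d hd, ← mul_assoc, hxc d hd, mul_assoc]
      inv_mem' := by
        rintro x ⟨hx, hxc, hxp⟩
        exact ⟨inv_mem hx, fun d hd => (show Commute x d from hxc d hd).inv_left.eq, by rw [inv_pow, hxp, inv_one]⟩ }
  refine ⟨W, ⟨fun x hx g => ?_⟩, ?_, fun x hx => hx.1, fun x hx y hy => hx.2.1 y hy.1, fun x hx => hx.2.2,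
    fun x hx => hx.2.1⟩
  · obtain ⟨hx, hxc, hxp⟩ := hx
    refine ⟨hD.conj_mem x hx g, fun d hd => ?_, by rw [conj_pow, hxp, mul_one, mul_inv_cancel]⟩
    have h1 := hxc _ (hD.conj_mem d hd g⁻¹)
    rw [inv_inv] at h1
    calc g * x * g⁻¹ * d = g * (x * (g⁻¹ * d * g)) * g⁻¹ := by group
      _ = g * (g⁻¹ * d * g * x) * g⁻¹ := by rw [h1]
      _ = _ := by group
  · haveI : Nontrivial D := (nontrivial_iff_ne_bot _).2 hne
    haveI := hDp.center_nontrivial
    obtain ⟨⟨z, hz⟩, hz1⟩ := exists_ne (1 : Subgroup.center D)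
    have hz1' : (z : G) ≠ 1 := fun e => hz1 (Subtype.ext (Subtype.ext e))
    obtain ⟨i, hi⟩ := IsPGroup.iff_orderOf.1 hDp z
    rw [← Subgroup.orderOf_coe] at hi
    have hdvd : p ∣ orderOf (z : G) := by
      rcases i with _ | i
      · exact absurd (orderOf_eq_one_iff.1 (by rw [hi, pow_zero])) hz1'
      · exact hi ▸ dvd_pow_self p i.succ_ne_zero
    have ho : orderOf ((z : G) ^ (orderOf (z : G) / p)) = p := orderOf_pow_orderOf_div (orderOf_pos _).ne' hdvd
    intro e
    have hmem : (z : G) ^ (orderOf (z : G) / p) ∈ W := by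
      refine ⟨pow_mem z.2 _, fun d hd => ?_, orderOf_dvd_iff_pow_eq_one.1 ho.dvd⟩
      exact (show Commute (z : G) d from
        (congrArg Subtype.val (mem_center_iff.1 hz ⟨d, hd⟩)).symm).pow_left _ |>.eq
    rw [e, mem_bot] at hmem
    rw [hmem, orderOf_one] at ho
    exact (Fact.out : p.Prime).one_lt.ne ho

theorem elem_two {W : Subgroup G} [W.Normal] (hW : W ≤ Cfsg.fittingSubgroup G) (hW1 : W ≠ ⊥)
    (hc : ∀ x ∈ W, ∀ y ∈ W, x * y = y * x) (h2 : ∀ x ∈ W, x * x = 1) {κ e : G}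
    (hκ : val κ = c) (hκ1 : κ ≠ 1) (he : val e = c) (hk : Odd (orderOf κ)) {i : ℕ} (heo : orderOf e = 2 ^ i)
    (hke : Commute κ e) (he2 : e * e ∈ centralizer (W : Set G)) : κ ∈ Cfsg.fittingSubgroup G := by
  refine h.centralizer_le (h.fitting_coprime.coprime_dvd_left (card_dvd_of_le hW)) hW1
    (mem_centralizer_of_same_fixed_two hc h2 hk hke he2 fun x _ => ?_)
  have hC := h.cent_eq hκ hκ1 he hke (by rw [heo]; exact (Nat.coprime_two_right.2 hk).pow_right i)
  constructor <;> intro hx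
  · exact (mem_cent.1 (hC.symm ▸ mem_cent.2 hx.symm : x ∈ centralizer ({κ} : Set G))).symm
  · exact (mem_cent.1 (hC ▸ mem_cent.2 hx.symm : x ∈ centralizer ({e} : Set G))).symm

/-- Two commuting `2`-elements of type `c` cannot both act as involutions on an odd abelian subgroup. -/
theorem four {W : Subgroup G} [W.Normal] (hW : W ≤ Cfsg.fittingSubgroup G) (hW1 : W ≠ ⊥)
    (hc : ∀ x ∈ W, ∀ y ∈ W, x * y = y * x) (hodd : Odd (Nat.card W)) {e f : G}
    (hef : Commute e f) (he : e * e ∈ centralizer (W : Set G)) (hff : f * f ∈ centralizer (W : Set G))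
    {i j : ℕ} (heo : orderOf e = 2 ^ i) (hfo : orderOf f = 2 ^ j)
    (hf : f ∉ Cfsg.fittingSubgroup G) (hp : e * f ∉ Cfsg.fittingSubgroup G) : e ∈ Cfsg.fittingSubgroup G := by
  haveI : Fact (Nat.Prime 2) := ⟨Nat.prime_two⟩
  refine h.centralizer_le (h.fitting_coprime.coprime_dvd_left (card_dvd_of_le hW)) hW1
    (mem_centralizer_of_same_fixed_odd hc hodd hef he hff (fun x hx hfx => ?_) fun x hx hpx => ?_)
  · have hle := h.cent_le (h.typeC hf (h.val_ne_b Nat.prime_two h.two_not_dvd hfo))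
      (fun e' => hf (e' ▸ one_mem _)) hfx (by
        rw [hfo]; exact (Nat.coprime_two_left.2 (hodd.of_dvd_nat (Subgroup.orderOf_dvd_natCard _ hx))).pow_left _)
    exact mem_cent.1 (hle (mem_cent.2 hef))
  · obtain ⟨k, -, hk⟩ := (Nat.dvd_prime_pow Nat.prime_two).1
      ((Commute.orderOf_mul_dvd_lcm hef).trans (Nat.lcm_dvd (heo ▸ pow_dvd_pow 2 (le_max_left i j))
        (hfo ▸ pow_dvd_pow 2 (le_max_right i j))))
    have hle := h.cent_le (h.typeC hp (h.val_ne_b Nat.prime_two h.two_not_dvd hk))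
      (fun e' => hp (e' ▸ one_mem _)) hpx (by
        rw [hk]; exact (Nat.coprime_two_left.2 (hodd.of_dvd_nat (Subgroup.orderOf_dvd_natCard _ hx))).pow_left _)
    exact mem_cent.1 (hle (mem_cent.2 ((Commute.refl e).mul_right hef)))

end Cfsg.Lib.ConjRankThree.Conf
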