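import Cfsg.Agent.Lib.ConjRankThree.Centreless.Split
import Cfsg.Agent.Lib.GW.Basic
import Cfsg.Agent.Lib.Thompson.FixedPointFree
import Cfsg.Agent.Lib.Chev.ReeSolvable
import Cfsg.Agent.S4134
import Mathlib.GroupTheory.SchurZassenhaus
import Mathlib.GroupTheory.Transfer

/-!
# The abelian Hall subgroup is neither normal nor self-normalising

Otherwise the group is solvable.  Either all products `z y` have type `c`, which contradicts the counting
inequality, or some class is a union of cosets of a non-trivial normal subgroup; so some abelian normal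
subgroup of order prime to `b` exists.
-/

set_option autoImplicit false
set_option linter.style.haveILetI false
set_option linter.unusedSectionVars false

open Subgroup Cfsg.Lib.Char Cfsg.Lib.Char.CAEven
open scoped IsMulCommutative

namespace Cfsg.Lib.ConjRankThree

universe u

variable {G : Type u} [Group G] [Fintype G]

/-- The standing hypotheses. -/
structure Conf (G : Type u) [Group G] [Fintype G] (B : Subgroup G) (a b c : ℕ) : Prop where
  three : Three G a b c
  center : center G = ⊥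
  nsol : ¬ Group.IsSolvable G
  ncb : ¬ c ∣ b
  ca : IsCA B
  card : Nat.card B = b

omit [Fintype G] in
/-- A class product as large as the second class. -/
theorem exists_translate [Finite G] (hZ : Subgroup.center G = ⊥) {u w : G} (hu1 : u ≠ 1)
    (hprod : ∀ g : G, ∃ α ∈ centralizer ({u} : Set G), ∃ β ∈ centralizer ({w} : Set G), g = α * β)
    (he : val (u * w) = val w) :
    ∃ H : Subgroup G, H.Normal ∧ H ≠ ⊥ ∧ Nat.card H ∣ (centralizer ({w} : Set G)).index := by
  classical
  haveI := Fintype.ofFinite G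
  have hconj : ∀ u' w' : G, IsConj u u' → IsConj w w' → IsConj (u * w) (u' * w') := by
    intro u' w' hu hw
    obtain ⟨g, rfl⟩ := isConj_iff.1 hu
    obtain ⟨g', rfl⟩ := isConj_iff.1 hw
    obtain ⟨α, hα, β, hβ, e⟩ := hprod (g⁻¹ * g')
    refine isConj_iff.2 ⟨g * α, ?_⟩
    have e1 : β * w * β⁻¹ = w := mul_inv_eq_iff_eq_mul.2 (mem_cent.1 hβ).eq
    have e2 : α * u * α⁻¹ = u := mul_inv_eq_iff_eq_mul.2 (mem_cent.1 hα).eq
    rw [show g' = g * (α * β) by rw [← e, mul_inv_cancel_left],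
      show g * (α * β) * w * (g * (α * β))⁻¹ = g * α * (β * w * β⁻¹) * (g * α)⁻¹ by group, e1,
      show g * α * (u * w) * (g * α)⁻¹ = g * (α * u * α⁻¹) * g⁻¹ * (g * α * w * (g * α)⁻¹) by group, e2]
  let H : Subgroup G :=
    { carrier := {g | ∀ x, IsConj w (g * x) ↔ IsConj w x}
      one_mem' := fun x => by rw [one_mul]
      mul_mem' := fun {g g'} hg hg' x => by rw [mul_assoc]; exact (hg _).trans (hg' x)
      inv_mem' := fun {g} hg x => by
        rw [← hg (g⁻¹ * x), mul_inv_cancel_left] }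
  haveI hHn : H.Normal := ⟨fun g hg t x => by
    have hc : ∀ y : G, IsConj w (t * y * t⁻¹) ↔ IsConj w y := fun y =>
      ⟨fun e => e.trans (isConj_iff.2 ⟨t⁻¹, by group⟩), fun e => e.trans (isConj_iff.2 ⟨t, rfl⟩)⟩
    rw [show t * g * t⁻¹ * x = t * (g * (t⁻¹ * x * t)) * t⁻¹ by group, hc, hg]
    exact ⟨fun e => e.trans (isConj_iff.2 ⟨t, by group⟩), fun e => e.trans (isConj_iff.2 ⟨t⁻¹, by group⟩)⟩⟩
  have himg : ∀ u', IsConj u u' → ∀ x, IsConj (u * w) (u' * x) → IsConj w x := by
    intro u' hu x hx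
    have hsub : (classFinset w).image (u' * ·) = classFinset (u * w) := by
      refine Finset.eq_of_subset_of_card_le (fun p hp => ?_) ?_
      · obtain ⟨q, hq, rfl⟩ := Finset.mem_image.1 hp
        exact mem_classFinset.2 (hconj _ _ hu (mem_classFinset.1 hq))
      · rw [Finset.card_image_of_injective _ (mul_right_injective u'), card_classFinset, card_classFinset,
          index_eq, index_eq, he]
    obtain ⟨q, hq, e⟩ := Finset.mem_image.1 (hsub.symm ▸ mem_classFinset.2 hx :
      u' * x ∈ (classFinset w).image (u' * ·))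
    exact mul_left_cancel e ▸ mem_classFinset.1 hq
  have hmem : ∀ u', IsConj u u' → u'⁻¹ * u ∈ H := fun u' hu x =>
    ⟨fun e => himg u (IsConj.refl u) x (by
      have := hconj u' _ hu e
      rwa [show u' * (u'⁻¹ * u * x) = u * x by group] at this),
     fun e => himg u' hu _ (by
      rw [show u' * (u'⁻¹ * u * x) = u * x by group]
      exact hconj u x (IsConj.refl u) e)⟩
  refine ⟨H, hHn, fun e => hu1 ?_, ?_⟩
  · have hc : u ∈ Subgroup.center G := mem_center_iff.2 fun g => by
      have := hmem (g * u * g⁻¹) (isConj_iff.2 ⟨g, rfl⟩)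
      rw [e, mem_bot, inv_mul_eq_one, mul_inv_eq_iff_eq_mul] at this
      exact this
    rwa [hZ, mem_bot] at hc
  · rw [← card_classFinset, ← Nat.card_eq_finsetCard]
    have hset : {x : G | IsConj w x} =
        (QuotientGroup.mk : G → G ⧸ H) ⁻¹' ((QuotientGroup.mk : G → G ⧸ H) '' {x : G | IsConj w x}) := by
      refine Set.Subset.antisymm (Set.subset_preimage_image _ _) ?_
      rintro x ⟨x', hx', e⟩
      have hh : x * x'⁻¹ ∈ H := by
        have := hHn.conj_mem _ (QuotientGroup.eq.1 e) x'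
        rwa [mul_assoc x', mul_assoc x'⁻¹, mul_inv_cancel_left] at this
      have := (hh x').2 hx'
      rwa [inv_mul_cancel_right] at this
    refine ⟨Nat.card ((QuotientGroup.mk : G → G ⧸ H) '' {x : G | IsConj w x}), ?_⟩
    rw [← Nat.card_prod, ← Nat.card_congr (QuotientGroup.preimageMkEquivSubgroupProdSet H _), ← hset]
    exact Nat.card_congr (Equiv.subtypeEquivRight fun x => mem_classFinset)

namespace Conf

variable {B : Subgroup G} {a b c : ℕ} (h : Conf G B a b c)

include h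

theorem coprime : a.Coprime b := h.three.coprime_orders h.ca h.card

theorem card_G : Nat.card G = a * b := h.three.card_eq h.ca h.card

theorem index_B : B.index = a := by
  have h1 := B.card_mul_index
  rw [h.card, h.card_G, mul_comm a b] at h1
  exact Nat.eq_of_mul_eq_mul_left (h.card ▸ Nat.card_pos) h1

theorem b_gt : 1 < b := by
  obtain ⟨x, hx1, hx⟩ := h.three.exb
  exact hx ▸ one_lt_val hx1

theorem exists_mem : ∃ y ∈ B, y ≠ 1 ∧ val y = b := by
  haveI : Nontrivial B := Finite.one_lt_card_iff_nontrivial.1 (h.card.symm ▸ h.b_gt)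
  obtain ⟨⟨y, hy⟩, hy1⟩ := exists_ne (1 : B)
  exact ⟨y, hy, fun e => hy1 (Subtype.ext e), by rw [val, h.ca.cent y hy (fun e => hy1 (Subtype.ext e)), h.card]⟩

theorem val_mem {u : G} (hu : u ∈ B) (hu1 : u ≠ 1) : val u = b := by
  rw [val, h.ca.cent u hu hu1, h.card]

theorem coprime_of_not_mem_conj {x : G} (hx : val x ≠ b) (hx1 : x ≠ 1) : ∀ g : G, g * x * g⁻¹ ∉ B :=
  fun g hg => hx (h.three.val_of_mem h.ca h.card hx1 hg)

/-- An element of `N(B)` of order dividing `b` lies in `B`. -/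
theorem mem_of_normalizer {v : G} (hv : v ∈ normalizer (B : Set G)) (ho : orderOf v ∣ b) : v ∈ B := by
  haveI : (B.subgroupOf (normalizer (B : Set G))).Normal := normal_in_normalizer
  have h1 := mem_subgroupOf.1 (Subgroup.pow_index_mem (B.subgroupOf (normalizer (B : Set G))) ⟨v, hv⟩)
  have hd : (B.subgroupOf (normalizer (B : Set G))).index ∣ a := by
    rw [← h.index_B, ← relIndex_mul_index (le_normalizer : B ≤ normalizer (B : Set G))]
    exact dvd_mul_right _ _
  obtain ⟨k, hk⟩ := exists_pow_eq_self_of_coprime (x := v)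
    ((h.coprime.coprime_dvd_left hd).coprime_dvd_right ho)
  rw [← hk]
  exact pow_mem h1 k

/-- A normal subgroup meets `B` trivially unless `B` is normal. -/
theorem disjoint_of_coprime {H : Subgroup G} (hH : (Nat.card H).Coprime b) : H ⊓ B = ⊥ := by
  rw [← card_eq_one]
  exact Nat.eq_one_of_dvd_coprimes hH (card_dvd_of_le inf_le_left) (h.card ▸ card_dvd_of_le inf_le_right)

/-- A normal subgroup of order prime to `b` is nilpotent. -/
theorem nilpotent_of_coprime {H : Subgroup G} [hn : H.Normal] (hH : (Nat.card H).Coprime b) :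
    Group.IsNilpotent H := by
  obtain ⟨p, hp, hpd⟩ := Nat.exists_prime_and_dvd h.b_gt.ne'
  haveI := Fact.mk hp
  obtain ⟨⟨y, hy⟩, hyo⟩ := exists_prime_orderOf_dvd_card' (G := B) p (h.card.symm ▸ hpd)
  rw [Subgroup.orderOf_mk] at hyo
  have hy1 : y ≠ 1 := fun e => hp.one_lt.ne (by rw [← hyo, e, orderOf_one])
  refine Cfsg.Lib.Thompson.isNilpotent_of_fpf hp (MulAut.conjNormal y : H ≃* H) (fun x hx => ?_) ?_
  · have hx' : y * (x : G) * y⁻¹ = x := congrArg Subtype.val hx
    have : (x : G) ∈ H ⊓ B := ⟨x.2, h.ca.cent y hy hy1 ▸ mem_cent.2 (mul_inv_eq_iff_eq_mul.1 hx').symm⟩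
    rw [h.disjoint_of_coprime hH, mem_bot] at this
    exact Subtype.ext this
  · have hit : ∀ (k : ℕ) (x : H), (((MulAut.conjNormal y : H ≃* H) : H → H)^[k] x : G) = y ^ k * x * (y ^ k)⁻¹ := by
      intro k
      induction k with
      | zero => simp
      | succ k ih =>
        intro x
        rw [Function.iterate_succ_apply', MulAut.conjNormal_apply, ih, pow_succ']
        group
    funext x
    refine Subtype.ext ((hit p x).trans ?_)
    rw [← hyo, pow_orderOf_eq_one]
    simp

/-- `B` is not normal. -/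
theorem not_normal : ¬ B.Normal := by
  intro hn
  haveI := hn
  obtain ⟨H, hH⟩ := exists_right_complement'_of_coprime (N := B) (by rw [h.card, h.index_B]; exact h.coprime.symm)
  have hHc : Nat.card H = a := by rw [← h.index_B, hH.symm.index_eq_card]
  haveI : IsMulCommutative B := ⟨⟨fun p q => Subtype.ext (h.ca.comm p p.2 q q.2)⟩⟩
  have hcent : ∀ t ∈ H, t ≠ 1 → centralizer ({t} : Set G) ≤ H := by
    intro t ht ht1 g hg
    obtain ⟨⟨⟨β, (hβ : β ∈ B)⟩, ⟨γ, (hγ : γ ∈ H)⟩⟩, e⟩ := hH.2 g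
    simp only at e
    have hgt := mem_cent.1 hg
    have hdis : B ⊓ H = ⊥ := hH.disjoint.eq_bot
    have hγt : Commute γ t := by
      have hmem : γ * t * γ⁻¹ * t⁻¹ ∈ B ⊓ H := by
        refine ⟨?_, mul_mem (mul_mem (mul_mem hγ ht) (H.inv_mem hγ)) (H.inv_mem ht)⟩
        have e2 : γ * t * γ⁻¹ * t⁻¹ = β⁻¹ * (t * β * t⁻¹) := by
          rw [show γ = β⁻¹ * g by rw [← e, inv_mul_cancel_left],
            show β⁻¹ * g * t * (β⁻¹ * g)⁻¹ * t⁻¹ = β⁻¹ * (g * t * g⁻¹) * β * t⁻¹ by group,
            mul_inv_eq_iff_eq_mul.2 hgt.eq]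
          group
        rw [e2]
        exact mul_mem (B.inv_mem hβ) (hn.conj_mem β hβ t)
      rw [hdis, mem_bot, mul_inv_eq_one, mul_inv_eq_iff_eq_mul] at hmem
      exact hmem
    have hβt : Commute β t := by
      rw [show β = g * γ⁻¹ by rw [← e, mul_inv_cancel_right]]
      exact hgt.mul_left hγt.inv_left
    have hβ1 : β = 1 := by
      by_contra hne
      have : t ∈ B ⊓ H := ⟨h.ca.cent β hβ hne ▸ mem_cent.2 hβt.symm, ht⟩
      rw [hdis, mem_bot] at this
      exact ht1 this
    rw [← e, hβ1, one_mul]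
    exact hγ
  have hval : ∀ t : H, t ≠ 1 → (centralizer ({t} : Set H)).index * val (t : G) = a := by
    intro t ht
    have ht' : (t : G) ≠ 1 := fun e => ht (Subtype.ext e)
    have hc : Nat.card (centralizer ({t} : Set H)) = val (t : G) := by
      refine Nat.card_congr ⟨fun g => ⟨((g : H) : G), mem_cent.2 (congrArg Subtype.val (mem_cent.1 g.2).eq)⟩,
        fun g => ⟨⟨g, hcent t t.2 ht' g.2⟩, mem_cent.2 (Subtype.ext (mem_cent.1 g.2).eq)⟩,
        fun g => rfl, fun g => rfl⟩
    rw [← hc, index_mul_card, hHc]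
  have hsol : Group.IsSolvable H := by
    have htwo : ∀ t : H, (centralizer ({t} : Set H)).index = 1 ∨ (centralizer ({t} : Set H)).index = a / c := by
      intro t
      rcases eq_or_ne t 1 with rfl | ht
      · exact Or.inl (index_eq_one.2 (eq_top_iff.2 fun w _ => mem_cent.2 (Commute.one_right w)))
      have ht' : (t : G) ≠ 1 := fun e => ht (Subtype.ext e)
      have hv := hval t ht
      rcases h.three.cases _ ht' with e | e | e <;> rw [e] at hv
      · left
        have ha : 0 < a := e ▸ val_pos (t : G)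
        exact Nat.eq_of_mul_eq_mul_right ha (hv.trans (one_mul a).symm)
      · exact absurd (Nat.eq_one_of_dvd_coprimes h.coprime (hv ▸ dvd_mul_left b _) dvd_rfl) h.b_gt.ne'
      · right
        rw [← hv, Nat.mul_div_cancel _ (e ▸ val_pos (t : G))]
    by_cases hex : ∃ t : H, (centralizer ({t} : Set H)).index = a / c ∧ a / c ≠ 1
    · obtain ⟨t, ht, hne⟩ := hex
      obtain ⟨p, hp, k, -, hP⟩ := Cfsg.Agent.S4134.result (a / c)
        (lt_of_le_of_ne (ht ▸ Nat.pos_of_ne_zero index_ne_zero_of_finite) (Ne.symm hne)) htwo ⟨t, ht⟩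
      obtain ⟨P⟩ : Nonempty (Sylow p H) := inferInstance
      obtain ⟨-, ⟨N, hN, hNc, hNab, -⟩, -⟩ := hP P
      haveI := hN
      haveI := hNab
      haveI : Group.IsNilpotent (H ⧸ N) := by
        refine (IsPGroup.of_card (p := p) (n := (Nat.card H).factorization p) ?_).isNilpotent
        rw [← P.card_eq_multiplicity, ← Subgroup.index, hNc.symm.index_eq_card]
      exact Group.isSolvable_of_ker_le_range N.subtype (QuotientGroup.mk' N) (by simp)
    · push Not at hex
      refine Group.isSolvable_of_comm fun p q => ?_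
      have : (centralizer ({q} : Set H)).index = 1 := (htwo q).elim id (fun e => by rw [e, hex q e])
      exact (mem_cent.1 ((index_eq_one.1 this).symm ▸ mem_top p)).eq
  haveI := hsol
  haveI : Group.IsSolvable (G ⧸ B) := by
    refine Group.isSolvable_of_surjective (f := (QuotientGroup.mk' B).comp H.subtype) fun q => ?_
    obtain ⟨g, rfl⟩ := QuotientGroup.mk'_surjective B q
    obtain ⟨⟨⟨β, (hβ : β ∈ B)⟩, ⟨γ, (hγ : γ ∈ H)⟩⟩, e⟩ := hH.2 g
    refine ⟨⟨γ, hγ⟩, QuotientGroup.eq.2 ?_⟩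
    simp only at e
    rw [← e, ← mul_assoc]
    simpa using hn.conj_mem β hβ γ⁻¹
  exact h.nsol (Group.isSolvable_of_ker_le_range B.subtype (QuotientGroup.mk' B) (by simp))

/-- `B` is not its own normaliser. -/
theorem normalizer_ne : ¬ normalizer (B : Set G) ≤ B := by
  intro hN
  haveI : IsMulCommutative B := ⟨⟨fun p q => Subtype.ext (h.ca.comm p p.2 q q.2)⟩⟩
  let φ : G →* B := MonoidHom.transfer (MonoidHom.id B)
  have hφ : ∀ x : B, φ x = x ^ a := by
    intro x
    have key : ∀ (k : ℕ) (g₀ : G), g₀⁻¹ * (x : G) ^ k * g₀ ∈ B → g₀⁻¹ * (x : G) ^ k * g₀ = (x : G) ^ k := by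
      intro k g₀ hk
      rcases eq_or_ne ((x : G) ^ k) 1 with e | e
      · rw [e, mul_one, inv_mul_cancel]
      · have hm := hN (h.ca.ti (pow_mem x.2 k) e (g := g₀⁻¹) (by rwa [inv_inv]))
        rw [h.ca.comm _ hm _ (pow_mem x.2 k), inv_mul_cancel_right]
    rw [show φ (x : G) = _ from MonoidHom.transfer_eq_pow _ (x : G) key]
    exact Subtype.ext (by simp [h.index_B])
  have hdis : φ.ker ⊓ B = ⊥ := by
    refine eq_bot_iff.2 fun x hx => mem_bot.2 ?_
    have h1 : (⟨x, hx.2⟩ : B) ^ a = 1 := (hφ ⟨x, hx.2⟩).symm.trans (MonoidHom.mem_ker.1 hx.1)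
    have hcop : (Nat.card B).Coprime a := h.card.symm ▸ h.coprime.symm
    exact congrArg Subtype.val ((powCoprime hcop).injective (show (⟨x, hx.2⟩ : B) ^ a = 1 ^ a from h1.trans (one_pow a).symm))
  have hco : (Nat.card φ.ker).Coprime b := by
    refine Nat.Coprime.coprime_dvd_left ?_ h.coprime
    refine (Nat.Coprime.dvd_mul_right ?_).1 (h.card_G ▸ card_subgroup_dvd_card φ.ker)
    refine Nat.coprime_of_dvd fun p hp hpk hpb => ?_
    haveI := Fact.mk hp
    obtain ⟨⟨x, hx⟩, hxo⟩ := exists_prime_orderOf_dvd_card' (G := φ.ker) p hpk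
    rw [Subgroup.orderOf_mk] at hxo
    have hx1 : x ≠ 1 := fun e => hp.one_lt.ne (by rw [← hxo, e, orderOf_one])
    -- conjugate `x` into `B`
    obtain ⟨U, hU⟩ := (IsPGroup.of_card (n := 1) (by rw [Nat.card_zpowers, hxo, pow_one]) :
      IsPGroup p (zpowers x)).exists_le_sylow
    obtain ⟨P, hP⟩ := exists_sylow_le_of_full (p := p) (H := B) (by
      have hd : p ^ (Nat.card G).factorization p ∣ a * b := by
        rw [← h.card_G]; exact Nat.ordProj_dvd _ _
      show p ^ _ ∣ Nat.card B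
      rw [h.card]
      exact ((h.coprime.coprime_dvd_right hpb).symm.pow_left _).dvd_mul_left.1 hd)
    obtain ⟨g, hg⟩ := MulAction.exists_smul_eq G U P
    have hxB : g * x * g⁻¹ ∈ φ.ker ⊓ B := by
      refine ⟨(inferInstance : φ.ker.Normal).conj_mem x hx g, hP ?_⟩
      rw [← hg, Sylow.coe_subgroup_smul]
      exact ⟨x, hU (mem_zpowers x), rfl⟩
    rw [hdis, mem_bot] at hxB
    exact hx1 (conj_eq_one_iff.1 hxB)
  haveI := h.nilpotent_of_coprime hco
  exact h.nsol (Group.isSolvable_of_ker_le_range φ.ker.subtype φ (by simp))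

/-- A non-trivial element of `N(B)` outside `B` does not have type `a`. -/
theorem val_ne_a {x : G} (hx : x ∈ normalizer (B : Set G)) (hx1 : x ≠ 1) : val x ≠ a := by
  intro hxa
  obtain ⟨y, hyB, hy1, hy⟩ := h.exists_mem
  obtain ⟨N, hN⟩ : ∃ N, N = normalizer (B : Set G) := ⟨_, rfl⟩
  have hcl : ∀ g : G, g * x * g⁻¹ ∈ N := by
    intro g
    obtain ⟨α, hα, β, hβ, e⟩ := h.three.exists_mul hxa hy g⁻¹
    have hβN : β ∈ N := hN ▸ le_normalizer (h.ca.cent y hyB hy1 ▸ hβ)
    rw [show g = β⁻¹ * α⁻¹ by rw [← _root_.mul_inv_rev, ← e, inv_inv],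
      show β⁻¹ * α⁻¹ * x * (β⁻¹ * α⁻¹)⁻¹ = β⁻¹ * (α⁻¹ * x * α) * β by group,
      show α⁻¹ * x * α = x by rw [mul_assoc, ← (mem_cent.1 hα).eq, inv_mul_cancel_left]]
    exact mul_mem (mul_mem (inv_mem hβN) (hN ▸ hx)) hβN
  obtain ⟨M, hM⟩ : ∃ M, M = normalClosure ({x} : Set G) := ⟨_, rfl⟩
  haveI hMn : M.Normal := hM ▸ normalClosure_normal
  have hMN : M ≤ N := by
    rw [hM, normalClosure, closure_le]
    intro w hw
    obtain ⟨_, rfl, hc⟩ := Group.mem_conjugatesOfSet_iff.1 hw
    obtain ⟨g, rfl⟩ := isConj_iff.1 hc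
    exact hcl g
  have hdis : ∀ u ∈ M, u ∈ B → u = 1 := by
    intro u huM huB
    by_contra hu1
    refine h.not_normal ⟨fun w hw g => ?_⟩
    have hv : g * u * g⁻¹ ∈ B := h.mem_of_normalizer (hN ▸ hMN (hMn.conj_mem u huM g)) (by
      rw [← MulAut.conj_apply, MulEquiv.orderOf_eq, ← h.card]
      exact Subgroup.orderOf_dvd_natCard _ huB)
    exact (mem_normalizer_iff.1 (h.ca.ti huB hu1 hv) w).1 hw
  have hxM : x ∈ M := hM ▸ subset_normalClosure rfl
  have hmem : x * y * x⁻¹ * y⁻¹ = 1 := by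
    refine hdis _ ?_ (mul_mem ((mem_normalizer_iff.1 hx y).1 hyB) (inv_mem hyB))
    rw [show x * y * x⁻¹ * y⁻¹ = x * (y * x⁻¹ * y⁻¹) by group]
    exact mul_mem hxM (hMn.conj_mem _ (inv_mem hxM) y)
  rw [mul_inv_eq_one, mul_inv_eq_iff_eq_mul] at hmem
  have hxB : x ∈ B := h.ca.cent y hyB hy1 ▸ mem_cent.2 hmem
  exact hx1 (hdis x hxM hxB)

/-- An element of prime order in `N(B)` acting fixed point freely on `B`. -/
theorem exists_kappa : ∃ κ ∈ normalizer (B : Set G), ∃ s : ℕ, s.Prime ∧ ¬ s ∣ b ∧ orderOf κ = s ∧ val κ = c := by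
  obtain ⟨v, hv, hvB⟩ := SetLike.not_le_iff_exists.1 h.normalizer_ne
  have hne : orderOf v ≠ 1 := fun e => hvB (by rw [orderOf_eq_one_iff.1 e]; exact one_mem _)
  obtain ⟨s, hs, hsd, hsb⟩ : ∃ s : ℕ, s.Prime ∧ s ∣ Nat.card (normalizer (B : Set G)) ∧ ¬ s ∣ b := by
    by_contra hno
    push Not at hno
    have hcop : ((normalizer (B : Set G))).index ≠ 0 := index_ne_zero_of_finite
    have hd : B.relIndex (normalizer (B : Set G)) ∣ a := by
      rw [← h.index_B, ← relIndex_mul_index (le_normalizer : B ≤ normalizer (B : Set G))]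
      exact dvd_mul_right _ _
    refine h.normalizer_ne (relIndex_eq_one.1 ?_)
    by_contra hne1
    obtain ⟨p, hp, hpd⟩ := Nat.exists_prime_and_dvd hne1
    have := hno p hp (hpd.trans (relIndex_dvd_card _ _))
    exact hp.not_dvd_one (h.coprime ▸ Nat.dvd_gcd (hpd.trans hd) this)
  haveI := Fact.mk hs
  obtain ⟨⟨κ, hκ⟩, hκo⟩ := exists_prime_orderOf_dvd_card' s hsd
  rw [Subgroup.orderOf_mk] at hκo
  have hκ1 : κ ≠ 1 := fun e => hs.one_lt.ne (by rw [← hκo, e, orderOf_one])
  refine ⟨κ, hκ, s, hs, hsb, hκo, ?_⟩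
  rcases h.three.cases κ hκ1 with e | e | e
  · exact absurd e (h.val_ne_a hκ hκ1)
  · exact absurd (hκo ▸ e ▸ Subgroup.orderOf_dvd_natCard _ (self_mem κ)) hsb
  · exact e

end Conf

end Cfsg.Lib.ConjRankThree
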