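import Cfsg.Agent.Lib.ConjRankThree.Centreless.EvenCase
import Cfsg.Agent.Lib.ConjRankThree.Main

/-!
# Centreless groups of conjugate rank at most three

A non-solvable one has no proper division among the centraliser orders, so its involution centralisers are
abelian and it is `PSL₂(2 ^ m)`.
-/

set_option autoImplicit false
set_option linter.style.haveILetI false
set_option linter.unusedSectionVars false

open Subgroup
open scoped MatrixGroups

namespace Cfsg.Lib.ConjRankThree

universe u

variable {G : Type u} [Group G] [Finite G]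

/-- The three orders of a centreless non-solvable group do not divide each other properly. -/
theorem Three.false_centreless {a b c : ℕ} (h : Three G a b c) (hZ : center G = ⊥)
    (hns : ¬ Group.IsSolvable G) : False := by
  haveI := Fintype.ofFinite G
  by_cases hcb : c ∣ b
  · exact h.false_of_dvd' hZ hcb
  obtain ⟨B, y, r, hB, hcard, hyB, hy1, -, -, -, -⟩ := h.exists_B' hZ hns hcb
  have hC : Conf G B a b c := ⟨h, hZ, hns, hcb, hB, hcard⟩
  haveI := Cfsg.Lib.Core.fittingSubgroup_normal' G
  obtain ⟨κ, hκN, s, hs, hsb, hκo, hκ⟩ := hC.exists_kappa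
  have hκF : κ ∉ Cfsg.fittingSubgroup G := fun hF => hsb (by
    have hmem : κ * y * κ⁻¹ * y⁻¹ = 1 := hC.disjoint_fitting
      (by
        rw [show κ * y * κ⁻¹ * y⁻¹ = κ * (y * κ⁻¹ * y⁻¹) by group]
        exact mul_mem hF ((inferInstance : (Cfsg.fittingSubgroup G).Normal).conj_mem _ (inv_mem hF) y))
      (mul_mem ((mem_normalizer_iff.1 hκN y).1 hyB) (inv_mem hyB))
    rw [mul_inv_eq_one, mul_inv_eq_iff_eq_mul] at hmem
    have hκB : κ ∈ B := hB.cent y hyB hy1 ▸ mem_cent.2 hmem
    exact hκo ▸ hcard ▸ Subgroup.orderOf_dvd_natCard _ hκB)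
  rcases hs.eq_two_or_odd' with rfl | hodd
  · exact hC.false_of_even hκN hκ hκo hκF
  · exact hC.false_of_odd hκN hκ (hκo ▸ hodd) hκF

/-- Centreless, at most three class sizes other than one, not solvable. -/
theorem psl_of_centreless (hZ : center G = ⊥) (hns : ¬ Group.IsSolvable G)
    (h3 : Set.ncard {n : ℕ | 1 < n ∧ ∃ x : G, (centralizer ({x} : Set G)).index = n} ≤ 3) :
    ∃ (m : ℕ) (F : Type) (_ : Field F) (_ : Fintype F), 0 < m ∧ Fintype.card F = 2 ^ m ∧
      Nonempty (G ≃* Matrix.ProjectiveSpecialLinearGroup (Fin 2) F) := by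
  classical
  haveI : Fact (Nat.Prime 2) := ⟨Nat.prime_two⟩
  obtain ⟨V, hV⟩ : ∃ V, V = {v : ℕ | ∃ x : G, x ≠ 1 ∧ val x = v} := ⟨_, rfl⟩
  have hVfin : V.Finite := (Set.finite_le_nat (Nat.card G)).subset fun v hv => by
    rw [hV] at hv
    obtain ⟨x, -, rfl⟩ := hv
    exact card_le_card_group _
  have hTfin : {n : ℕ | 1 < n ∧ ∃ x : G, (centralizer ({x} : Set G)).index = n}.Finite := by
    refine (Set.finite_le_nat (Nat.card G)).subset ?_
    rintro n ⟨-, x, rfl⟩
    exact Nat.le_of_dvd Nat.card_pos (index_dvd_card _)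
  have hV3 : V.ncard ≤ 3 := by
    refine le_trans (Set.ncard_le_ncard_of_injOn (fun v => Nat.card G / v) (fun v hv => ?_) (fun v hv w hw e => ?_)
      hTfin) h3
    · rw [hV] at hv
      obtain ⟨x, hx, rfl⟩ := hv
      refine ⟨?_, x, index_eq x⟩
      rw [← index_eq]
      exact lt_of_le_of_ne (Nat.pos_of_ne_zero index_ne_zero_of_finite) fun e =>
        (val_lt_card hZ hx).ne (by rw [val, index_eq_one.1 e.symm, card_top])
    · rw [hV] at hv hw
      obtain ⟨x, -, rfl⟩ := hv
      obtain ⟨y, -, rfl⟩ := hw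
      simp only at e
      rw [← Nat.div_div_self (val_dvd_card x) Nat.card_pos.ne', e,
        Nat.div_div_self (val_dvd_card y) Nat.card_pos.ne']
  have hND : NoDiv G := by
    intro x y hx hy hd
    by_contra hne
    have hmax : ∀ M ∈ V, ¬ ∀ v ∈ V, v ∣ M := by
      intro M hM hall
      rw [hV] at hM hall
      obtain ⟨w, hw, rfl⟩ := hM
      refine (val_lt_card hZ hw).ne (eq_card_of_full (val_dvd_card w) fun p _ hp => ?_)
      obtain ⟨z, -, hz1, -, -, hf⟩ := exists_central hp (Classical.arbitrary (Sylow p G))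
      exact hf.trans (hall _ ⟨z, hz1, rfl⟩)
    have hcV : val x ∈ V := hV ▸ ⟨x, hx, rfl⟩
    have haV : val y ∈ V := hV ▸ ⟨y, hy, rfl⟩
    obtain ⟨b, hbV, hb⟩ : ∃ b ∈ V, b ≠ val y ∧ b ≠ val x := by
      by_contra hno
      push Not at hno
      refine hmax _ haV fun v hv => ?_
      by_cases e : v = val y
      · rw [e]
      · rw [hno v hv e]; exact hd
    have hall : ∀ v ∈ V, v = val y ∨ v = b ∨ v = val x := by
      have he : ({val y, b, val x} : Set ℕ) = V := Set.eq_of_subset_of_ncard_le
        (Set.insert_subset haV (Set.insert_subset hbV (Set.singleton_subset_iff.2 hcV)))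
        (by
          rw [Set.ncard_insert_of_notMem (by
            simp only [Set.mem_insert_iff, Set.mem_singleton_iff, not_or]
            exact ⟨Ne.symm hb.1, Ne.symm hne⟩), Set.ncard_pair hb.2]
          exact hV3) hVfin
      intro v hv
      rw [← he] at hv
      simpa using hv
    have nba : ¬ b ∣ val y := fun e => hmax _ haV fun v hv => by
      rcases hall v hv with r | r | r <;> rw [r]
      exact e
      exact hd
    have nab : ¬ val y ∣ b := fun e => hmax _ hbV fun v hv => by
      rcases hall v hv with r | r | r <;> rw [r]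
      exacts [e, hd.trans e]
    have hbex : ∃ w : G, w ≠ 1 ∧ val w = b := by rw [hV] at hbV; exact hbV
    exact (Three.mk (G := G) (a := val y) (b := b) (c := val x)
      (fun w hw => hall _ (hV ▸ ⟨w, hw, rfl⟩)) ⟨y, hy, rfl⟩ hbex ⟨x, hx, rfl⟩ hd hne nab nba).false_centreless hZ hns
  obtain ⟨S⟩ : Nonempty (Sylow 2 G) := inferInstance
  have hnn : ¬ (S : Subgroup G).Normal := fun hn => by
    haveI := hn
    refine hns ?_
    haveI := S.2.isNilpotent
    haveI : Group.IsSolvable (G ⧸ (S : Subgroup G)) := Cfsg.Agent.S0205.result (by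
      rw [← Nat.not_even_iff_odd, even_iff_two_dvd, ← Subgroup.index]
      exact S.not_dvd_index)
    exact Group.isSolvable_of_ker_le_range (S : Subgroup G).subtype (QuotientGroup.mk' (S : Subgroup G)) (by simp)
  obtain ⟨F, iF, iFt, A, iA, iAf, hchar, hodd, ⟨e⟩⟩ :=
    Cfsg.Lib.Invol.AC.structure_of_hyp (Nat.card G) G rfl S
      ⟨hND.abInv, Cfsg.Lib.GW.not_isCyclic_sylow hns S, hnn⟩
  haveI := hchar
  have hA : ∀ a : A, a = 1 := fun a => by
    have hmem : e.symm (1, a) ∈ center G := mem_center_iff.2 fun g => by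
      apply e.injective
      rw [map_mul, map_mul, MulEquiv.apply_symm_apply]
      exact Prod.ext (by simp) (mul_comm _ _)
    rw [hZ, mem_bot] at hmem
    have := congrArg (fun q => (e q).2) hmem
    simpa using this
  let g : G →* SL(2, F) := (MonoidHom.fst _ A).comp e.toMonoidHom
  have hg : Function.Bijective g := by
    refine ⟨fun a b h => e.injective (Prod.ext h ((hA _).trans (hA _).symm)), fun M => ⟨e.symm (M, 1), by simp [g]⟩⟩
  have hcen : center SL(2, F) = ⊥ := by
    refine eq_bot_iff.2 fun Q hQ => ?_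
    obtain ⟨r, hr, hQ'⟩ := Matrix.SpecialLinearGroup.mem_center_iff.1 hQ
    have hr1 : r = 1 := by
      rw [Fintype.card_fin] at hr
      exact CharTwo.sq_inj.mp (hr.trans (one_pow 2).symm)
    rw [mem_bot]
    ext i j
    rw [← hQ', hr1]
    simp
  obtain ⟨⟨m, hm0⟩, -, hm⟩ := FiniteField.card F 2
  exact ⟨m, F, iF, iFt, hm0, hm, ⟨(MulEquiv.ofBijective g hg).trans (QuotientGroup.quotientBot.symm.trans
    (QuotientGroup.quotientMulEquivOfEq hcen.symm))⟩⟩

end Cfsg.Lib.ConjRankThree
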