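import Cfsg.Agent.Lib.ConjRankThree.Centreless.Fitting

/-!
# No element of odd prime order normalises `B` without centralising it

Let `m` be the order of `C_D(κ)`, `D = O_2(G)`.  Every `2`-subgroup of a centraliser of type `c` has order at
most `m`, and `m ^ 2 ≤ |D|`.  This makes `D` elementary abelian and consisting of elements of type `a`, and
then a `2`-element acting on `D` as an involution gives a larger `2`-subgroup.
-/

set_option autoImplicit false
set_option linter.style.haveILetI false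
set_option linter.unusedSectionVars false

open Subgroup Cfsg.Lib.Char Cfsg.Lib.Char.CAEven

namespace Cfsg.Lib.ConjRankThree.Conf

universe u

variable {G : Type u} [Group G] [Fintype G] {B : Subgroup G} {a b c : ℕ} (h : Conf G B a b c)

include h

/-- A `2`-element outside the Fitting subgroup with square inside. -/
theorem exists_t : ∃ (t : G) (i : ℕ), t ∉ Cfsg.fittingSubgroup G ∧ t * t ∈ Cfsg.fittingSubgroup G ∧
    orderOf t = 2 ^ i := by
  haveI : Fact (Nat.Prime 2) := ⟨Nat.prime_two⟩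
  haveI := Cfsg.Lib.Core.fittingSubgroup_normal' G
  obtain ⟨S⟩ : Nonempty (Sylow 2 G) := inferInstance
  by_cases hS : (S : Subgroup G) ≤ Cfsg.fittingSubgroup G
  · exfalso
    have hodd : Odd (Nat.card (G ⧸ Cfsg.fittingSubgroup G)) := by
      rw [← Nat.not_even_iff_odd, even_iff_two_dvd]
      intro hd
      have h1 := mul_dvd_mul (full_of_sylow_le S hS) hd
      rw [← Subgroup.index, card_mul_index, ← pow_succ] at h1
      have := (Nat.prime_two.pow_dvd_iff_le_factorization Nat.card_pos.ne').1 h1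
      omega
    haveI := Cfsg.Agent.S0205.result hodd
    haveI := Cfsg.Lib.Core.fittingSubgroup_isNilpotent G
    exact h.nsol (Group.isSolvable_of_ker_le_range (Cfsg.fittingSubgroup G).subtype
      (QuotientGroup.mk' (Cfsg.fittingSubgroup G)) (by simp))
  obtain ⟨x, hxS, hx⟩ := SetLike.not_le_iff_exists.1 hS
  have hex : ∃ k, x ^ 2 ^ k ∈ Cfsg.fittingSubgroup G := by
    obtain ⟨k, hk⟩ := S.2 ⟨x, hxS⟩
    exact ⟨k, by rw [show x ^ 2 ^ k = 1 from congrArg Subtype.val hk]; exact one_mem _⟩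
  classical
  rcases hn : Nat.find hex with _ | k
  · exact absurd (by simpa [hn] using Nat.find_spec hex) hx
  refine ⟨x ^ 2 ^ k, ?_⟩
  obtain ⟨i, hi⟩ := IsPGroup.iff_orderOf.1 S.2 ⟨x ^ 2 ^ k, pow_mem hxS _⟩
  rw [Subgroup.orderOf_mk] at hi
  refine ⟨i, Nat.find_min hex (by omega), ?_, hi⟩
  rw [← pow_two, ← pow_mul, ← pow_succ, ← hn]
  exact Nat.find_spec hex

theorem pCore_ne_bot : Cfsg.pCore 2 G ≠ ⊥ := by
  haveI : Fact (Nat.Prime 2) := ⟨Nat.prime_two⟩
  intro hD
  have hout : ∀ {x : G} {i : ℕ}, x ≠ 1 → orderOf x = 2 ^ i → x ∉ Cfsg.fittingSubgroup G := fun {x i} hx hi hF => by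
    have := Cfsg.Lib.Fusion.mem_pCore_of_mem_fitting hF ⟨i, hi⟩
    rw [hD, mem_bot] at this
    exact hx this
  have h2G : 2 ∣ Nat.card G := by
    obtain ⟨t, i, ht, -, hi⟩ := h.exists_t
    rcases i with _ | i
    · exact absurd (by rw [orderOf_eq_one_iff.1 (hi.trans (pow_zero 2))]; exact one_mem _) ht
    · exact (hi ▸ dvd_pow_self 2 i.succ_ne_zero).trans (orderOf_dvd_natCard t)
  obtain ⟨S⟩ : Nonempty (Sylow 2 G) := inferInstance
  obtain ⟨z, -, hz1, -, ⟨i, hi⟩, hzf⟩ := exists_central h2G S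
  have hfc : Full G 2 c := h.typeC (hout hz1 hi) (h.val_ne_b Nat.prime_two h.two_not_dvd hi) ▸ hzf
  have hab : IsMulCommutative (S : Subgroup G) := by
    refine Cfsg.Agent.S4355.result (fun x ⟨j, hj⟩ hd => ?_) S
    rcases eq_or_ne x 1 with rfl | hx
    · rw [show centralizer ({(1 : G)} : Set G) = ⊤ from eq_top_iff.2 fun w _ =>
        mem_cent.2 (Commute.one_right w), index_top] at hd
      omega
    exact not_full_of_dvd_index Nat.prime_two hd
      (h.typeC (hout hx hj) (h.val_ne_b Nat.prime_two h.two_not_dvd hj) ▸ hfc)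
  obtain ⟨e, f, he, hf, hne⟩ : ∃ e f : (S : Subgroup G), orderOf e = 2 ∧ orderOf f = 2 ∧ e ≠ f := by
    by_contra hno
    push Not at hno
    letI : CommGroup (S : Subgroup G) := { (inferInstance : Group (S : Subgroup G)) with mul_comm := hab.is_comm.comm }
    exact Cfsg.Lib.GW.not_isCyclic_sylow h.nsol S
      (Cfsg.Lib.Invol.AC.isCyclic_of_unique_invol S.2 fun x y hx hy => hno x y hx hy)
  -- an abelian normal subgroup of odd order
  obtain ⟨p, hp, hpF⟩ := Nat.exists_prime_and_dvd (fun e => h.fitting_ne_bot (card_eq_one.1 e))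
  haveI := Fact.mk hp
  haveI hn : (Cfsg.pCore p G).Normal := sSup_normal _ fun _ h' => h'.1
  obtain ⟨⟨x, hxF⟩, hxo⟩ := exists_prime_orderOf_dvd_card' (G := Cfsg.fittingSubgroup G) p hpF
  rw [Subgroup.orderOf_mk] at hxo
  have hxp := Cfsg.Lib.Fusion.mem_pCore_of_mem_fitting hxF ⟨1, by rw [hxo, pow_one]⟩
  have hx1 : x ≠ 1 := fun e => hp.one_lt.ne (by rw [← hxo, e, orderOf_one])
  have hpne : Cfsg.pCore p G ≠ ⊥ := fun e => hx1 (mem_bot.1 (e ▸ hxp))
  have hp2 : p ≠ 2 := fun e => hout hx1 (i := 1) (by rw [hxo, e, pow_one]) hxF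
  obtain ⟨W, hWn, hW1, hWD, hWc, -, -⟩ := exists_omega p hpne (Cfsg.Lib.Fusion.pCore_isPGroup (G := G) p)
  haveI := hWn
  have hodd : Odd (Nat.card W) := by
    obtain ⟨k, hk⟩ := ((Cfsg.Lib.Fusion.pCore_isPGroup (G := G) p).to_le hWD).exists_card_eq
    rw [hk]; exact (hp.odd_of_ne_two hp2).pow
  have hsq : ∀ u : (S : Subgroup G), orderOf u = 2 → (u : G) * u = 1 := fun u hu => by
    rw [← pow_two]; exact congrArg Subtype.val (orderOf_dvd_iff_pow_eq_one.1 hu.dvd)
  have hef : Commute (e : G) f := congrArg Subtype.val (hab.is_comm.comm e f)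
  have hprod : (e : G) * f ≠ 1 := fun e' => hne (Subtype.ext (mul_right_cancel (e'.trans (hsq f hf).symm)))
  refine hout (i := 1) ?_ (by rw [Subgroup.orderOf_coe, he, pow_one]) (h.four
    (hWD.trans (Cfsg.Lib.Core.pCore_le_fittingSubgroup p G)) hW1 hWc hodd hef
    (by rw [hsq e he]; exact one_mem _) (by rw [hsq f hf]; exact one_mem _)
    (i := 1) (j := 1) (by rw [Subgroup.orderOf_coe, he, pow_one]) (by rw [Subgroup.orderOf_coe, hf, pow_one])
    (hout (i := 1) ?_ (by rw [Subgroup.orderOf_coe, hf, pow_one]))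
    (hout (i := 1) hprod (orderOf_eq_prime ?_ hprod)))
  · exact fun e' => by
      rw [show e = 1 from Subtype.ext e', orderOf_one] at he
      omega
  · exact fun e' => by
      rw [show f = 1 from Subtype.ext e', orderOf_one] at hf
      omega
  · rw [pow_one, hef.mul_pow, pow_two, pow_two, hsq e he, hsq f hf, one_mul]

theorem false_of_odd {κ : G} (hκN : κ ∈ normalizer (B : Set G)) (hκ : val κ = c) (hk : Odd (orderOf κ))
    (hκF : κ ∉ Cfsg.fittingSubgroup G) : False := by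
  classical
  haveI : Fact (Nat.Prime 2) := ⟨Nat.prime_two⟩
  have hκ1 : κ ≠ 1 := fun e => hκF (e ▸ one_mem _)
  obtain ⟨D, hD⟩ : ∃ D, D = Cfsg.pCore 2 G := ⟨_, rfl⟩
  haveI hDn : D.Normal := hD ▸ sSup_normal _ fun _ h' => h'.1
  haveI := Cfsg.Lib.Core.fittingSubgroup_normal' G
  have hD2 : IsPGroup 2 D := hD ▸ Cfsg.Lib.Fusion.pCore_isPGroup (G := G) 2
  have hD1 : D ≠ ⊥ := hD ▸ h.pCore_ne_bot
  have hDF : D ≤ Cfsg.fittingSubgroup G := hD ▸ Cfsg.Lib.Core.pCore_le_fittingSubgroup 2 G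
  have hord : ∀ d ∈ D, ∃ i, orderOf d = 2 ^ i := fun d hd => by
    obtain ⟨i, hi⟩ := IsPGroup.iff_orderOf.1 hD2 ⟨d, hd⟩
    exact ⟨i, by rwa [Subgroup.orderOf_mk] at hi⟩
  obtain ⟨W, hWn, hW1, hWD, hWc, hW2, hWcD⟩ := exists_omega 2 hD1 hD2
  haveI := hWn
  have hWF : W ≤ Cfsg.fittingSubgroup G := hWD.trans hDF
  have hWcF : Cfsg.fittingSubgroup G ≤ centralizer (W : Set G) := le_of_primePow fun p hp x hx j hj => by
    refine mem_centralizer_iff.2 fun w hw => ?_
    rcases eq_or_ne p 2 with rfl | hp2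
    · exact hWcD w hw x (hD ▸ Cfsg.Lib.Fusion.mem_pCore_of_mem_fitting hx ⟨j, hj⟩)
    · exact commute_of_normal_of_disjoint D (Cfsg.pCore p G) hDn (sSup_normal _ fun _ h' => h'.1)
        (IsPGroup.disjoint_of_ne 2 p (Ne.symm hp2) _ _ hD2 (Cfsg.Lib.Fusion.pCore_isPGroup (G := G) p))
        w x (hWD hw) (Cfsg.Lib.Fusion.mem_pCore_of_mem_fitting hx ⟨j, hj⟩)
  -- the `2`-elements of `C(κ)` lie in `F`
  have hCκ : ∀ (x : G) (i : ℕ), Commute κ x → orderOf x = 2 ^ i → x ∈ Cfsg.fittingSubgroup G := by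
    intro x i hcx hxo
    induction i generalizing x with
    | zero => rw [orderOf_eq_one_iff.1 (hxo.trans (pow_zero 2))]; exact one_mem _
    | succ i ih =>
      by_contra hx
      have h2 : x * x ∈ Cfsg.fittingSubgroup G := ih (x * x) (hcx.mul_right hcx) (by
        rw [← pow_two, orderOf_pow_of_dvd two_ne_zero (by rw [hxo]; exact dvd_pow_self 2 i.succ_ne_zero), hxo,
          pow_succ, Nat.mul_div_cancel _ two_pos])
      exact hκF (h.elem_two hWF hW1 hWc (fun w hw => by rw [← pow_two]; exact hW2 w hw) hκ hκ1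
        (h.typeC hx (h.val_ne_b Nat.prime_two h.two_not_dvd hxo)) hk hxo hcx (hWcF h2))
  obtain ⟨m, hm⟩ : ∃ m, m = Nat.card (D ⊓ centralizer ({κ} : Set G) : Subgroup G) := ⟨_, rfl⟩
  have hbound : ∀ (P : Subgroup G) (g : G), val g = c → P ≤ centralizer ({g} : Set G) → IsPGroup 2 P →
      Nat.card P ≤ m := by
    intro P g hg hle hP
    obtain ⟨i, hi⟩ := hP.exists_card_eq
    obtain ⟨Q, hQ⟩ := Sylow.exists_subgroup_card_pow_prime (G := centralizer ({κ} : Set G)) 2 (n := i) (by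
      rw [← hi, ← val, hκ, ← hg]; exact card_dvd_of_le hle)
    rw [hi, ← hQ, ← card_map_of_injective (K := Q) (centralizer ({κ} : Set G)).subtype_injective, hm]
    refine Nat.le_of_dvd Nat.card_pos (card_dvd_of_le ?_)
    rintro _ ⟨x, hx, rfl⟩
    obtain ⟨j, hj⟩ := IsPGroup.iff_orderOf.1 (IsPGroup.of_card hQ) ⟨x, hx⟩
    rw [Subgroup.orderOf_mk, ← Subgroup.orderOf_coe] at hj
    exact ⟨hD ▸ Cfsg.Lib.Fusion.mem_pCore_of_mem_fitting (hCκ _ j (mem_cent.1 x.2).symm hj) ⟨j, hj⟩, x.2⟩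
  have hsq : m * m ≤ Nat.card D := by
    obtain ⟨y, hyB, hy1, -⟩ := h.exists_mem
    obtain ⟨X, hX⟩ : ∃ X, X = (D ⊓ centralizer ({κ} : Set G) : Subgroup G) := ⟨_, rfl⟩
    rw [hm, ← hX, ← Nat.card_prod]
    refine Nat.card_le_card_of_injective
      (fun p : X × X => (⟨(p.1 : G) * (y * p.2 * y⁻¹), mul_mem (hX ▸ p.1.2 : (p.1 : G) ∈ D ⊓ centralizer ({κ} : Set G)).1
        (hDn.conj_mem _ (hX ▸ p.2.2 : (p.2 : G) ∈ D ⊓ centralizer ({κ} : Set G)).1 y)⟩ : D)) ?_
    have hzero : ∀ u v : G, u ∈ X → v ∈ X → u = y * v * y⁻¹ → u = 1 := by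
      intro u v hu hv huv
      rw [hX] at hu hv
      have hvk : Commute v κ := mem_cent.1 hv.2
      have huk : Commute u κ := mem_cent.1 hu.2
      have hconj : Commute u (y * κ * y⁻¹) := by
        rw [huv]
        simpa using hvk.map (MulAut.conj y).toMonoidHom
      have hbB : κ⁻¹ * (y * κ * y⁻¹) ∈ B := by
        rw [show κ⁻¹ * (y * κ * y⁻¹) = (κ⁻¹ * y * κ) * y⁻¹ by group]
        refine mul_mem ?_ (inv_mem hyB)
        simpa using (mem_normalizer_iff.1 (inv_mem hκN) y).1 hyB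
      have hb1 : κ⁻¹ * (y * κ * y⁻¹) ≠ 1 := fun e => by
        rw [inv_mul_eq_one, eq_mul_inv_iff_mul_eq] at e
        refine hκF ?_
        have hκB : κ ∈ B := h.ca.cent y hyB hy1 ▸ mem_cent.2 e
        exact absurd (hκ ▸ h.val_mem hκB hκ1 : c = b) fun e' => h.three.nbc (dvd_of_eq e'.symm)
      exact h.disjoint_fitting (hDF hu.1) (h.ca.cent _ hbB hb1 ▸ mem_cent.2 (huk.inv_right.mul_right hconj))
    rintro ⟨⟨p₁, h₁⟩, ⟨p₂, h₂⟩⟩ ⟨⟨q₁, k₁⟩, ⟨q₂, k₂⟩⟩ e
    have e' : p₁ * (y * p₂ * y⁻¹) = q₁ * (y * q₂ * y⁻¹) := congrArg Subtype.val e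
    have h3 := hzero (q₁⁻¹ * p₁) (q₂ * p₂⁻¹) (mul_mem (inv_mem k₁) h₁) (mul_mem k₂ (inv_mem h₂)) (by
      rw [show y * (q₂ * p₂⁻¹) * y⁻¹ = q₁⁻¹ * (q₁ * (y * q₂ * y⁻¹)) * (y * p₂⁻¹ * y⁻¹) by group, ← e']
      group)
    rw [inv_mul_eq_one] at h3
    subst h3
    have h4 : p₂ = q₂ := by simpa using mul_left_cancel e'
    subst h4
    rfl
  -- `D` is abelian
  have htype : ∀ w ∈ D, w ≠ 1 → val w = a ∨ val w = c := fun w hw hw1 => by
    rcases h.three.cases w hw1 with e | e | e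
    · exact Or.inl e
    · obtain ⟨i, hi⟩ := hord w hw
      exact absurd (orderOf_eq_one_iff.1 (Nat.eq_one_of_dvd_coprimes (h.val_ne_b Nat.prime_two h.two_not_dvd hi)
        dvd_rfl (e ▸ Subgroup.orderOf_dvd_natCard _ (self_mem w)))) hw1
    · exact Or.inr e
  have hcenA : ∀ w ∈ D, val w = a → ∀ d ∈ D, d * w = w * d := fun w _ hwa d hd =>
    mem_centralizer_iff.1 (h.typeA hwa) d (hDF hd)
  have hab : ∀ x ∈ D, ∀ y ∈ D, x * y = y * x := by
    by_contra hno
    have hne : Subgroup.center D ≠ ⊤ := fun e => hno fun x hx y hy =>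
      congrArg Subtype.val (mem_center_iff.1 (e ▸ mem_top (⟨y, hy⟩ : D)) ⟨x, hx⟩)
    haveI : Nontrivial (D ⧸ Subgroup.center D) := by
      rw [← Finite.one_lt_card_iff_nontrivial, ← Subgroup.index]
      exact lt_of_le_of_ne (Nat.pos_of_ne_zero index_ne_zero_of_finite) fun e => hne (index_eq_one.1 e.symm)
    haveI := (hD2.to_quotient (Subgroup.center D)).center_nontrivial
    obtain ⟨⟨q, hq⟩, hq1⟩ := exists_ne (1 : Subgroup.center (D ⧸ Subgroup.center D))
    obtain ⟨w, rfl⟩ := QuotientGroup.mk_surjective q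
    have hwZ : w ∉ Subgroup.center D := fun e => hq1 (Subtype.ext ((QuotientGroup.eq_one_iff w).2 e))
    have hcom : ∀ d : D, d * w * d⁻¹ * w⁻¹ ∈ Subgroup.center D := fun d => by
      rw [← QuotientGroup.eq_one_iff, QuotientGroup.mk_mul, QuotientGroup.mk_mul, QuotientGroup.mk_mul,
        QuotientGroup.mk_inv, QuotientGroup.mk_inv, mem_center_iff.1 hq, mul_inv_cancel_right, mul_inv_cancel]
    have hw1 : (w : G) ≠ 1 := fun e => hwZ (by rw [show w = 1 from Subtype.ext e]; exact one_mem _)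
    have hwc : val (w : G) = c := (htype w w.2 hw1).resolve_left fun e =>
      hwZ (mem_center_iff.2 fun d => Subtype.ext (hcenA w w.2 e d d.2))
    obtain ⟨C, hC⟩ : ∃ C, C = centralizer ({w} : Set D) := ⟨_, rfl⟩
    have hCm : Nat.card C ≤ m := by
      rw [← card_map_of_injective (K := C) D.subtype_injective]
      refine hbound _ _ hwc ?_ ((hD2.to_subgroup C).map _)
      rintro _ ⟨x, hx, rfl⟩
      rw [hC] at hx
      exact mem_cent.2 (congrArg Subtype.val (mem_cent.1 hx).eq)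
    have hidx : C.index ≤ Nat.card (Subgroup.center D) := by
      rw [Subgroup.index]
      refine Nat.card_le_card_of_injective (fun q => ⟨q.out * w * q.out⁻¹ * w⁻¹, hcom q.out⟩) fun q q' e => ?_
      have e1 : q.out * w * q.out⁻¹ = q'.out * w * q'.out⁻¹ := mul_right_cancel (congrArg Subtype.val e)
      rw [← QuotientGroup.out_eq' q, ← QuotientGroup.out_eq' q']
      refine QuotientGroup.eq.2 (hC.ge (mem_cent.2 ?_))
      show q.out⁻¹ * q'.out * w = w * (q.out⁻¹ * q'.out)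
      calc q.out⁻¹ * q'.out * w = q.out⁻¹ * (q'.out * w * q'.out⁻¹) * q'.out := by group
        _ = q.out⁻¹ * (q.out * w * q.out⁻¹) * q'.out := by rw [e1]
        _ = _ := by group
    have hlt : Nat.card (Subgroup.center D) < Nat.card C := by
      refine lt_of_not_ge fun hge => hwZ ?_
      have hle : Subgroup.center D ≤ C := fun z hz => hC ▸ mem_cent.2 (mem_center_iff.1 hz w).symm
      rw [eq_of_le_of_card_ge hle hge, hC]
      exact self_mem w
    have h1 := C.index_mul_card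
    have h2 : Nat.card C * Nat.card C ≤ m * m := Nat.mul_le_mul hCm hCm
    have h3 : C.index * Nat.card C < Nat.card C * Nat.card C :=
      Nat.mul_lt_mul_of_pos_right (lt_of_le_of_lt hidx hlt) Nat.card_pos
    omega
  -- all of `D` has type `a`
  have hDa : ∀ w ∈ D, w ≠ 1 → val w = a := fun w hw hw1 => by
    refine (htype w hw hw1).resolve_right fun e => ?_
    have h1 := hbound D w e (fun d hd => mem_cent.2 (hab d hd w hw)) hD2
    have h2 : 1 < Nat.card D := (one_lt_card_iff_ne_bot _).2 hD1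
    have h3 : Nat.card D * 2 ≤ m * m := Nat.mul_le_mul h1 (h2.trans_le h1)
    omega
  have hDcent : ∀ d ∈ D, ∀ x ∈ Cfsg.fittingSubgroup G, x * d = d * x := fun d hd x hx => by
    rcases eq_or_ne d 1 with rfl | hd1
    · simp
    · exact mem_centralizer_iff.1 (h.typeA (hDa d hd hd1)) x hx
  obtain ⟨t, i, htF, ht2, hto⟩ := h.exists_t
  have htc : val t = c := h.typeC htF (h.val_ne_b Nat.prime_two h.two_not_dvd hto)
  have hinv : ∀ d ∈ D, t * (t * d * t⁻¹) * t⁻¹ = d := fun d hd => by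
    rw [show t * (t * d * t⁻¹) * t⁻¹ = (t * t) * d * (t * t)⁻¹ by group, hDcent d hd _ ht2, mul_inv_cancel_right]
  -- `D` is elementary
  have helem : ∀ x ∈ D, x * x = 1 := by
    by_contra hno
    push Not at hno
    obtain ⟨x, hxD, hx2⟩ := hno
    have hsame : ∀ x ∈ D, x * x ≠ 1 → centralizer ({x} : Set G) = centralizer ({x * x} : Set G) := fun x hx hx2 =>
      eq_of_le_of_val (fun g hg => mem_cent.2 ((mem_cent.1 hg).mul_right (mem_cent.1 hg)))
        ((hDa x hx (fun e => hx2 (by rw [e, one_mul]))).trans (hDa _ (mul_mem hx hx) hx2).symm)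
    obtain ⟨j, hj⟩ := hord x hxD
    rcases j with _ | j
    · exact hx2 (by rw [orderOf_eq_one_iff.1 (hj.trans (pow_zero 2)), one_mul])
    rcases j with _ | j
    · exact hx2 (by rw [← pow_two, show (2 : ℕ) = orderOf x by rw [hj]; rfl, pow_orderOf_eq_one])
    have hy : ∃ v ∈ D, v * v ≠ 1 ∧ (v * v) * (v * v) = 1 := by
      refine ⟨x ^ 2 ^ j, pow_mem hxD _, fun e => ?_, ?_⟩
      · rw [← pow_add] at e
        have := orderOf_dvd_of_pow_eq_one e
        rw [hj, ← two_mul, ← pow_succ'] at this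
        have := (Nat.pow_dvd_pow_iff_le_right (by norm_num : 1 < 2)).1 this
        omega
      · rw [← pow_add, ← pow_add, show 2 ^ j + 2 ^ j + (2 ^ j + 2 ^ j) = 2 ^ (j + 1 + 1) by ring, ← hj,
          pow_orderOf_eq_one]
    obtain ⟨v, hvD, hv2, hv4⟩ := hy
    -- a square of order two fixed by `t`
    obtain ⟨u, huD, hu2, hu4, hut⟩ : ∃ u ∈ D, u * u ≠ 1 ∧ (u * u) * (u * u) = 1 ∧ Commute t (u * u) := by
      obtain ⟨v', hv'⟩ : ∃ v', v' = t * v * t⁻¹ := ⟨_, rfl⟩
      have hv'D : v' ∈ D := hv' ▸ hDn.conj_mem v hvD t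
      have hcc : (v * v') * (v * v') = (v * v) * (v' * v') :=
        (show Commute v' v from hab v' hv'D v hvD).mul_mul_mul_comm v v'
      have hv's : v' * v' = t * (v * v) * t⁻¹ := by rw [hv']; group
      by_cases he : (v * v) * (v' * v') = 1
      · refine ⟨v, hvD, hv2, hv4, ?_⟩
        have e1 : v' * v' = v * v := mul_left_cancel (he.trans hv4.symm)
        exact mul_inv_eq_iff_eq_mul.1 (hv's.symm.trans e1)
      · refine ⟨v * v', mul_mem hvD hv'D, hcc ▸ he, ?_, ?_⟩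
        · rw [hcc, (show Commute (v' * v') (v * v) from
            hab _ (mul_mem hv'D hv'D) _ (mul_mem hvD hvD)).mul_mul_mul_comm, hv4, one_mul, hv's,
            show t * (v * v) * t⁻¹ * (t * (v * v) * t⁻¹) = t * (v * v * (v * v)) * t⁻¹ by group, hv4]
          group
        · rw [hcc, hv's]
          refine mul_inv_eq_iff_eq_mul.1 ?_
          rw [show t * (v * v * (t * (v * v) * t⁻¹)) * t⁻¹ =
            (t * (v * v) * t⁻¹) * (t * (t * (v * v) * t⁻¹) * t⁻¹) by group, hinv _ (mul_mem hvD hvD)]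
          exact hab _ (hDn.conj_mem _ (mul_mem hvD hvD) t) _ (mul_mem hvD hvD)
    have htu : Commute t u := mem_cent.1 (hsame u huD hu2 ▸ mem_cent.2 hut)
    refine htF (h.centralizer_le (h.fitting_coprime.coprime_dvd_left (card_dvd_of_le hWF)) hW1
      (mem_centralizer_iff.2 fun d hd => ?_))
    have hdu : (u * d) * (u * d) = u * u := by
      rw [(show Commute d u from hWcD d hd u huD).mul_mul_mul_comm u d, ← pow_two d, hW2 d hd, mul_one]
    have htud : Commute t (u * d) :=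
      mem_cent.1 (hsame _ (mul_mem huD (hWD hd)) (hdu ▸ hu2) ▸ mem_cent.2 (hdu.symm ▸ hut))
    have := htu.inv_right.mul_right htud
    rw [inv_mul_cancel_left] at this
    exact this.eq.symm
  -- the final count
  obtain ⟨C, hC⟩ : ∃ C, C = (D ⊓ centralizer ({t} : Set G) : Subgroup G) := ⟨_, rfl⟩
  have h1 : Nat.card D ≤ Nat.card C * Nat.card C := by
    let φ : D →* D :=
      { toFun := fun d => ⟨(d : G) * (t * d * t⁻¹), mul_mem d.2 (hDn.conj_mem _ d.2 t)⟩
        map_one' := Subtype.ext (by simp)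
        map_mul' := fun p q => Subtype.ext (by
          show (p : G) * q * (t * (p * q) * t⁻¹) = (p : G) * (t * p * t⁻¹) * ((q : G) * (t * q * t⁻¹))
          rw [show t * ((p : G) * q) * t⁻¹ = (t * p * t⁻¹) * (t * q * t⁻¹) by group]
          exact (show Commute (q : G) (t * p * t⁻¹) from
            hab _ q.2 _ (hDn.conj_mem _ p.2 t)).mul_mul_mul_comm (p : G) (t * q * t⁻¹)) }
    have hk : φ.ker.map D.subtype ≤ C := by
      rintro _ ⟨d, hd, rfl⟩
      have hd' : (d : G) * (t * d * t⁻¹) = 1 := congrArg Subtype.val (MonoidHom.mem_ker.1 hd)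
      exact hC ▸ ⟨d.2, mem_cent.2 (mul_inv_eq_iff_eq_mul.1
        (mul_left_cancel (hd'.trans (helem d d.2).symm))).symm⟩
    have hr : φ.range.map D.subtype ≤ C := by
      rintro _ ⟨_, ⟨d, rfl⟩, rfl⟩
      refine hC ▸ ⟨(φ d).2, mem_cent.2 (mul_inv_eq_iff_eq_mul.1 ?_).symm⟩
      show t * ((d : G) * (t * d * t⁻¹)) * t⁻¹ = (d : G) * (t * d * t⁻¹)
      rw [show t * ((d : G) * (t * d * t⁻¹)) * t⁻¹ = (t * d * t⁻¹) * (t * (t * d * t⁻¹) * t⁻¹) by group,
        hinv d d.2]
      exact hab _ (hDn.conj_mem _ d.2 t) _ d.2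
    rw [← φ.ker.index_mul_card, Subgroup.index, Nat.card_congr (QuotientGroup.quotientKerEquivRange φ).toEquiv,
      ← card_map_of_injective (K := φ.range) D.subtype_injective,
      ← card_map_of_injective (K := φ.ker) D.subtype_injective]
    exact Nat.mul_le_mul (Nat.le_of_dvd Nat.card_pos (card_dvd_of_le hr))
      (Nat.le_of_dvd Nat.card_pos (card_dvd_of_le hk))
  have h2 : Nat.card C < m := by
    obtain ⟨P, hP⟩ : ∃ P, P = zpowers t ⊔ C := ⟨_, rfl⟩
    have htC : t ∉ C := fun e => htF (hDF (hC ▸ e : t ∈ D ⊓ centralizer ({t} : Set G)).1)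
    have hPle : P ≤ centralizer ({t} : Set G) :=
      hP ▸ sup_le (zpowers_le.2 (self_mem t)) (hC ▸ inf_le_right)
    have hP2 : IsPGroup 2 P := by
      have hp : IsPGroup 2 (zpowers t ⊔ D : Subgroup G) :=
        (IsPGroup.of_card (n := i) (by rw [Nat.card_zpowers, hto])).to_sup_of_normal_right hD2
      exact hp.to_le (hP ▸ sup_le_sup_left (hC ▸ inf_le_left) _)
    refine lt_of_lt_of_le ?_ (hbound P t htc hPle hP2)
    refine lt_of_le_of_ne (Nat.le_of_dvd Nat.card_pos (card_dvd_of_le (hP ▸ le_sup_right))) fun e => htC ?_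
    rw [eq_of_le_of_card_ge (hP ▸ le_sup_right : C ≤ P) e.ge, hP]
    exact mem_sup_left (mem_zpowers t)
  have h4 : Nat.card C * Nat.card C < m * m := Nat.mul_self_lt_mul_self h2
  omega

end Cfsg.Lib.ConjRankThree.Conf
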