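import Cfsg.Agent.Lib.ConjRankThree.Centreless.Basic
import Cfsg.Agent.S4146

/-!
# The smaller order dividing both larger ones

Commuting elements of types `a` and `b` of coprime orders make the class sizes `1, m, n, mn`, so the group
is nilpotent.  Such a pair always exists.
-/

set_option autoImplicit false
set_option linter.style.haveILetI false
set_option linter.unusedSectionVars false

open Subgroup

namespace Cfsg.Lib.ConjRankThree

universe u

variable {G : Type u} [Group G] [Finite G]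

namespace Three

variable {a b c : ℕ} (h : Three G a b c) (hZ : center G = ⊥)

include h

/-- An element of type `a` has the same centraliser as an element of prime power order for every other
prime which is not full in `b` and `c`. -/
theorem exists_same_cent {s j r : ℕ} [Fact s.Prime] [hr : Fact r.Prime] (hrs : r ≠ s) (hrG : r ∣ Nat.card G)
    (hrb : ¬ Full G r b) (hrc : ¬ Full G r c) {w : G} (hw : val w = a) (hw1 : w ≠ 1)
    (hws : orderOf w = s ^ j) :
    ∃ (u : G) (i : ℕ), u ≠ 1 ∧ orderOf u = r ^ i ∧ Commute u w ∧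
      centralizer ({u} : Set G) = centralizer ({w} : Set G) := by
  have hfa : Full G r (Nat.card (centralizer ({w} : Set G))) := by
    show Full G r (val w)
    rw [hw]; exact (h.full_or hrG).resolve_right hrb
  obtain ⟨R, hR⟩ := exists_sylow_le_of_full hfa
  obtain ⟨u, huR, hu1, hule, ⟨i, hi⟩, -⟩ := exists_central hrG R
  have hc : Commute u w := mem_cent.1 (hR huR)
  have hco : (orderOf u).Coprime (orderOf w) := coprime_pow hrs hi hws
  have hle := cent_mul_le hc hco
  have hne := mul_ne_one hu1 hco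
  have hf : Full G r (val (u * w)) := full_of_sylow_le R
    (fun g hg => inf_le_cent_mul u w ⟨hule hg, hR hg⟩)
  have hval : val (u * w) = a := by
    rcases h.cases _ hne with e | e | e
    · exact e
    · exact absurd (e ▸ hf) hrb
    · exact absurd (e ▸ hf) hrc
  have e1 : centralizer ({u * w} : Set G) = centralizer ({w} : Set G) :=
    eq_of_le_of_val (hle.trans inf_le_right) (hval.trans hw.symm)
  have hua : val u = a := h.val_a hu1 (hval ▸ val_dvd (hle.trans inf_le_left))
  have e2 : centralizer ({u * w} : Set G) = centralizer ({u} : Set G) :=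
    eq_of_le_of_val (hle.trans inf_le_left) (hval.trans hua.symm)
  exact ⟨u, i, hu1, hi, hc, e2 ▸ e1⟩

include hZ

/-- A coprime commuting pair of types `a` and `b`. -/
theorem false_of_pair (hcb : c ∣ b) {x y : G} (hx1 : x ≠ 1) (hx : val x = a) (hy1 : y ≠ 1) (hy : val y = b)
    (hc : Commute x y) (hco : (orderOf x).Coprime (orderOf y)) : False := by
  obtain ⟨m, hm⟩ : ∃ m, m = (centralizer ({x} : Set G)).index := ⟨_, rfl⟩
  obtain ⟨n, hn⟩ : ∃ n, n = (centralizer ({y} : Set G)).index := ⟨_, rfl⟩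
  have hmn : m.Coprime n := by rw [hm, hn]; exact h.coprime_index hx hy
  have hne := mul_ne_one hx1 hco
  have hle := cent_mul_le hc hco
  have hval : val (x * y) = c := by
    rcases h.cases _ hne with e | e | e
    · exact absurd (e ▸ hy ▸ val_dvd (hle.trans inf_le_right)) h.nab
    · exact absurd (e ▸ hx ▸ val_dvd (hle.trans inf_le_left)) h.nba
    · exact e
  have hidx : (centralizer ({x * y} : Set G)).index = m * n := by
    rw [le_antisymm hle (inf_le_cent_mul x y), index_inf_of_coprime (h.coprime_index hx hy), hm, hn]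
  have hval_idx : ∀ {v w : G}, val v = val w →
      (centralizer ({v} : Set G)).index = (centralizer ({w} : Set G)).index := fun {v w} e => by
    rw [index_eq, index_eq, e]
  have hone : ∀ {w : G}, w ≠ 1 → 1 < (centralizer ({w} : Set G)).index := fun {w} hw =>
    lt_of_le_of_ne (Nat.pos_of_ne_zero index_ne_zero_of_finite) (fun e =>
      (val_lt_card hZ hw).ne (by rw [val, index_eq_one.1 e.symm, card_top]))
  have hrange : Set.range (fun g : G => (centralizer ({g} : Set G)).index) = ({1, m, n, m * n} : Set ℕ) := by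
    refine Set.Subset.antisymm ?_ ?_
    · rintro _ ⟨g, rfl⟩
      simp only [Set.mem_insert_iff, Set.mem_singleton_iff]
      rcases eq_or_ne g 1 with rfl | hg
      · exact Or.inl (index_eq_one.2 (eq_top_iff.2 fun w _ => mem_cent.2 (Commute.one_right w)))
      rcases h.cases g hg with e | e | e
      · exact Or.inr (Or.inl ((hval_idx (e.trans hx.symm)).trans hm.symm))
      · exact Or.inr (Or.inr (Or.inl ((hval_idx (e.trans hy.symm)).trans hn.symm)))
      · exact Or.inr (Or.inr (Or.inr ((hval_idx (e.trans hval.symm)).trans hidx)))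
    · intro k hk
      simp only [Set.mem_insert_iff, Set.mem_singleton_iff] at hk
      rcases hk with rfl | rfl | rfl | rfl
      exacts [⟨1, index_eq_one.2 (eq_top_iff.2 fun w _ => mem_cent.2 (Commute.one_right w))⟩,
        ⟨x, hm.symm⟩, ⟨y, hn.symm⟩, ⟨x * y, hidx⟩]
  exact hx1 (eq_one_of_nilpotent hZ
    (Cfsg.Agent.S4146.result m n (hm ▸ hone hx1) (hn ▸ hone hy1) hmn hrange).1 x)

theorem pair_of_central' (hcb : c ∣ b) {s : ℕ} [hs : Fact s.Prime] (hsc : s ∣ c)
    (hsG : s ∣ Nat.card G)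
    (hb : ∃ S : Sylow s G, ∀ z ∈ (S : Subgroup G), z ≠ 1 →
      (S : Subgroup G) ≤ centralizer ({z} : Set G) → val z = b) : False := by
  obtain ⟨x, hx1, hx⟩ := h.exb
  obtain ⟨r, hr, hrG, hrb⟩ := exists_not_full_prime hZ hx1
  rw [hx] at hrb
  haveI := Fact.mk hr
  have hrc : ¬ Full G r c := fun e => hrb (e.trans hcb)
  obtain ⟨u, huR, hu1, -, ⟨i, hi⟩, huf⟩ := exists_central hrG (Classical.arbitrary (Sylow r G))
  have hua : val u = a := by
    rcases h.cases u hu1 with e | e | e
    · exact e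
    · exact absurd (e ▸ huf) hrb
    · exact absurd (e ▸ huf) hrc
  obtain ⟨S, hS⟩ := hb
  obtain ⟨v₀, hvS, hv01, hvle, ⟨j₀, hj₀⟩, hvf⟩ := exists_central hsG S
  have hsr : s ≠ r := by
    rintro rfl
    exact hrb (hS v₀ hvS hv01 hvle ▸ hvf)
  obtain ⟨⟨w, hw⟩, hw'⟩ := exists_prime_orderOf_dvd_card'
    (G := centralizer ({u} : Set G)) s (by rw [← val, hua]; exact hsc.trans h.ca)
  rw [Subgroup.orderOf_mk] at hw'
  have hw1 : w ≠ 1 := fun e => hs.out.one_lt.ne (by rw [← hw', e, orderOf_one])
  have hwu : Commute w u := mem_cent.1 hw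
  have hwo : orderOf w = s ^ 1 := by rw [hw', pow_one]
  obtain ⟨v, hvw, hv1, hvb, hvo⟩ : ∃ v, Commute v w ∧ v ≠ 1 ∧ val v = b ∧ orderOf v = s ^ j₀ := by
    obtain ⟨T, hT⟩ := (IsPGroup.of_card (n := 1) (by rw [Nat.card_zpowers, hwo]) :
      IsPGroup s (zpowers w)).exists_le_sylow
    obtain ⟨g, hg⟩ := MulAction.exists_smul_eq G S T
    refine ⟨g * v₀ * g⁻¹, ?_, fun e => hv01 (conj_eq_one_iff.1 e), by
      rw [val_conj]; exact hS v₀ hvS hv01 hvle, by rw [← MulAut.conj_apply, MulEquiv.orderOf_eq, hj₀]⟩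
    have hwT := hT (mem_zpowers w)
    rw [← hg, Sylow.coe_subgroup_smul] at hwT
    obtain ⟨w₀, hw₀, rfl⟩ := hwT
    have := ((mem_cent.1 (hvle hw₀)).symm).map (MulAut.conj g).toMonoidHom
    simpa using this
  rcases h.cases w hw1 with e | e | e
  · -- replace `w` by an element of coprime order with the same centraliser
    obtain ⟨u', i', hu'1, hu'o, -, hC⟩ := h.exists_same_cent hsr.symm hrG hrb hrc e hw1 hwo
    refine h.false_of_pair hZ hcb hu'1 (by rw [val, hC]; exact e) hv1 hvb ?_ (coprime_pow hsr.symm hu'o hvo)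
    exact (mem_cent.1 (hC ▸ mem_cent.2 hvw : v ∈ centralizer ({u'} : Set G))).symm
  · exact h.false_of_pair hZ hcb hu1 hua hw1 e hwu.symm (coprime_pow hsr.symm hi hwo)
  · have hco : (orderOf w).Coprime (orderOf u) := coprime_pow hsr hwo hi
    have hle := cent_mul_le hwu hco
    have hd : val (w * u) ∣ c := e ▸ val_dvd (hle.trans inf_le_left)
    have hwu1 := mul_ne_one hw1 hco
    have hval : val (w * u) = c := by
      rcases h.cases _ hwu1 with e' | e' | e'
      · exact absurd (e' ▸ hd) h.nac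
      · exact absurd (e' ▸ hd) h.nbc
      · exact e'
    have heq := eq_of_le_of_val (hle.trans inf_le_left) (hval.trans e.symm)
    have hv : v ∈ centralizer ({w * u} : Set G) := heq ▸ mem_cent.2 hvw
    exact h.false_of_pair hZ hcb hu1 hua hv1 hvb (mem_cent.1 (hle hv).2).symm (coprime_pow hsr.symm hi hvo)

omit hZ in
theorem symm' (hcb : c ∣ b) : Three G b a c :=
  ⟨fun x hx => by rcases h.cases x hx with e | e | e <;> simp [e], h.exb, h.exa, h.exc, hcb,
    fun e => h.nbc (e ▸ dvd_rfl), h.nba, h.nab⟩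

/-- No centreless group has `c` dividing both `a` and `b`. -/
theorem false_of_dvd' (hcb : c ∣ b) : False := by
  obtain ⟨x, hx1, hx⟩ := h.exc
  have hc1 : c ≠ 1 := (hx ▸ one_lt_val hx1).ne'
  obtain ⟨s, hs, hsc⟩ := Nat.exists_prime_and_dvd hc1
  haveI := Fact.mk hs
  have hsG : s ∣ Nat.card G := hsc.trans (hx ▸ val_dvd_card x)
  have hf : ¬ Full G s c := fun hf => by
    obtain ⟨y, hy1, hy⟩ := not_all_full hZ hsG
    rcases h.cases y hy1 with e | e | e <;> rw [e] at hy
    exacts [hy (hf.trans h.ca), hy (hf.trans hcb), hy hf]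
  obtain ⟨S⟩ : Nonempty (Sylow s G) := inferInstance
  obtain ⟨z, hzS, hz1, hzle, ⟨j, hj⟩, hzf⟩ := exists_central hsG S
  -- the types of the central elements
  have hnotc : ∀ v ∈ (S : Subgroup G), v ≠ 1 → (S : Subgroup G) ≤ centralizer ({v} : Set G) → val v ≠ c :=
    fun v _ _ hvle e => hf (e ▸ (full_iff S _).2 (card_dvd_of_le hvle))
  by_cases hall : ∀ v ∈ (S : Subgroup G), v ≠ 1 → (S : Subgroup G) ≤ centralizer ({v} : Set G) → val v = b
  · exact h.pair_of_central' hZ hcb hsc hsG ⟨S, hall⟩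
  by_cases hall' : ∀ v ∈ (S : Subgroup G), v ≠ 1 → (S : Subgroup G) ≤ centralizer ({v} : Set G) → val v = a
  · exact (h.symm' hcb).pair_of_central' hZ h.ca hsc hsG ⟨S, hall'⟩
  -- central elements of both types
  push Not at hall hall'
  obtain ⟨v, hvS, hv1, hvle, hvb⟩ := hall
  obtain ⟨v', hv'S, hv'1, hv'le, hv'a⟩ := hall'
  have hva : val v = a := by
    rcases h.cases v hv1 with e | e | e
    exacts [e, absurd e hvb, absurd e (hnotc v hvS hv1 hvle)]
  have hv'b : val v' = b := by
    rcases h.cases v' hv'1 with e | e | e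
    exacts [absurd e hv'a, e, absurd e (hnotc v' hv'S hv'1 hv'le)]
  -- a prime missing in one of the orders
  obtain ⟨w, hw1, hw⟩ := h.exb
  obtain ⟨r, hr, hrG, hrb⟩ := exists_not_full_prime hZ hw1
  rw [hw] at hrb
  haveI := Fact.mk hr
  have hrs : r ≠ s := by
    rintro rfl
    exact hrb (hv'b ▸ (full_iff S _).2 (card_dvd_of_le hv'le))
  obtain ⟨jv, hjv⟩ := IsPGroup.iff_orderOf.1 S.2 ⟨v, hvS⟩
  obtain ⟨jv', hjv'⟩ := IsPGroup.iff_orderOf.1 S.2 ⟨v', hv'S⟩
  rw [Subgroup.orderOf_mk] at hjv hjv'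
  obtain ⟨u, i, hu1, hi, -, hC⟩ := h.exists_same_cent hrs hrG hrb (fun e => hrb (e.trans hcb)) hva hv1 hjv
  refine h.false_of_pair hZ hcb hu1 (by rw [val, hC]; exact hva) hv'1 hv'b ?_ (coprime_pow hrs hi hjv')
  exact (mem_cent.1 (hC ▸ hvle hv'S : v' ∈ centralizer ({u} : Set G))).symm

end Three

end Cfsg.Lib.ConjRankThree
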