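import Cfsg.Agent.Lib.ConjRankThree.Centreless.Pair
import Cfsg.Agent.Lib.Solv.ComplementStructure
import Cfsg.Agent.Lib.Core.Fitting
import Cfsg.Agent.S4355

/-!
# The abelian Hall subgroup

`c` not dividing `b`: the centraliser of an element of type `b` is an abelian CA subgroup.  If `b` is a
prime power `r ^ m` all `r`-elements have type `b`, and the Sylow subgroup is abelian.
-/

set_option autoImplicit false
set_option linter.style.haveILetI false
set_option linter.unusedSectionVars false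

open Subgroup
open scoped IsMulCommutative

namespace Cfsg.Lib.ConjRankThree

universe u

variable {G : Type u} [Group G] [Finite G]

theorem map_normalClosure_commute {r : ℕ} [Fact r.Prime] {x : G}
    (hx : ∃ i : ℕ, (centralizer ({x} : Set G)).index = r ^ i) :
    ∀ a ∈ (normalClosure ({x} : Set G)).map (QuotientGroup.mk' (Cfsg.pCore r G)),
      ∀ b ∈ (normalClosure ({x} : Set G)).map (QuotientGroup.mk' (Cfsg.pCore r G)), a * b = b * a := by
  have hgen : ∀ g h : G, QuotientGroup.mk' (Cfsg.pCore r G) (g * x * g⁻¹) * QuotientGroup.mk' (Cfsg.pCore r G) (h * x * h⁻¹) =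
      QuotientGroup.mk' (Cfsg.pCore r G) (h * x * h⁻¹) * QuotientGroup.mk' (Cfsg.pCore r G) (g * x * g⁻¹) := fun g h => by
    have := (QuotientGroup.eq_one_iff _).2 (Cfsg.Agent.S4364.result r x hx g h)
    rw [← mul_inv_eq_one, _root_.mul_inv_rev, ← map_mul, ← map_inv, ← map_inv, ← map_mul, ← map_mul]
    rw [show g * x * g⁻¹ * (h * x * h⁻¹) * ((g * x * g⁻¹)⁻¹ * (h * x * h⁻¹)⁻¹) =
      g * x * g⁻¹ * (h * x * h⁻¹) * (g * x * g⁻¹)⁻¹ * (h * x * h⁻¹)⁻¹ by group]
    exact this
  intro a ha b hb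
  rw [normalClosure, MonoidHom.map_closure] at ha hb
  have hle : closure (QuotientGroup.mk' (Cfsg.pCore r G) '' Group.conjugatesOfSet ({x} : Set G)) ≤
      centralizer (closure (QuotientGroup.mk' (Cfsg.pCore r G) '' Group.conjugatesOfSet ({x} : Set G)) : Set _) := by
    rw [centralizer_closure, closure_le]
    rintro _ ⟨p, hp, rfl⟩
    refine mem_centralizer_iff.2 ?_
    rintro _ ⟨q, hq, rfl⟩
    obtain ⟨_, rfl, hp'⟩ := Group.mem_conjugatesOfSet_iff.1 hp
    obtain ⟨_, rfl, hq'⟩ := Group.mem_conjugatesOfSet_iff.1 hq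
    obtain ⟨g, rfl⟩ := isConj_iff.1 hp'
    obtain ⟨h, rfl⟩ := isConj_iff.1 hq'
    exact hgen h g
  exact (mem_centralizer_iff.1 (hle ha) b hb).symm

/-- If all elements of prime power order prime to `r` have classes of `r`-power size, the group is solvable. -/
theorem solvable_of_rPower_index {r : ℕ} [hr : Fact r.Prime]
    (h : ∀ (p : ℕ) (g : G) (i : ℕ), p.Prime → p ≠ r → orderOf g = p ^ i →
      ∃ k, (centralizer ({g} : Set G)).index = r ^ k) : Group.IsSolvable G := by
  obtain ⟨N, hN⟩ : ∃ N, N = Cfsg.pCore r G := ⟨_, rfl⟩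
  haveI : N.Normal := hN ▸ sSup_normal _ fun _ h' => h'.1
  haveI hNs : Group.IsSolvable N := by
    haveI := (hN ▸ Cfsg.Lib.Fusion.pCore_isPGroup (G := G) r : IsPGroup r N).isNilpotent
    infer_instance
  haveI := Cfsg.Lib.Core.fittingSubgroup_normal' (G ⧸ N)
  haveI := Cfsg.Lib.Core.fittingSubgroup_isNilpotent (G ⧸ N)
  let H : Subgroup G := (Cfsg.fittingSubgroup (G ⧸ N)).comap (QuotientGroup.mk' N)
  have hmem : ∀ (p : ℕ) (g : G) (i : ℕ), p.Prime → p ≠ r → orderOf g = p ^ i → g ∈ H := by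
    intro p g i hp hpr hg
    subst hN
    have hc := map_normalClosure_commute (h p g i hp hpr hg)
    haveI : ((normalClosure ({g} : Set G)).map (QuotientGroup.mk' (Cfsg.pCore r G))).Normal :=
      normalClosure_normal.map _ (QuotientGroup.mk'_surjective _)
    haveI : IsMulCommutative ((normalClosure ({g} : Set G)).map (QuotientGroup.mk' (Cfsg.pCore r G))) :=
      ⟨⟨fun a b => Subtype.ext (hc a a.2 b b.2)⟩⟩
    exact Cfsg.Lib.Core.le_fittingSubgroup
      (N := (normalClosure ({g} : Set G)).map (QuotientGroup.mk' (Cfsg.pCore r G))) inferInstance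
      (mem_map_of_mem _ (subset_normalClosure (Set.mem_singleton g)))
  have hNH : N ≤ H := fun n hn => by
    show QuotientGroup.mk' N n ∈ Cfsg.fittingSubgroup (G ⧸ N)
    rw [(show QuotientGroup.mk' N n = 1 from (QuotientGroup.eq_one_iff n).2 hn)]
    exact one_mem _
  let π : H →* Cfsg.fittingSubgroup (G ⧸ N) :=
    ((QuotientGroup.mk' N).comp H.subtype).codRestrict _ fun x => x.2
  haveI : Group.IsSolvable H :=
    Group.isSolvable_of_ker_le_range (inclusion hNH) π (fun x hx => by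
      have hx' : QuotientGroup.mk' N (x : G) = 1 := congrArg Subtype.val (MonoidHom.mem_ker.1 hx)
      exact ⟨⟨x, (QuotientGroup.eq_one_iff _).1 hx'⟩, Subtype.ext rfl⟩)
  haveI : H.Normal := inferInstanceAs ((Cfsg.fittingSubgroup (G ⧸ N)).comap (QuotientGroup.mk' N)).Normal
  have hp : IsPGroup r (G ⧸ H) := by
    intro q
    induction q using QuotientGroup.induction_on with
    | _ g =>
      refine ⟨(orderOf g).factorization r, ?_⟩
      rw [← QuotientGroup.mk_pow, QuotientGroup.eq_one_iff]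
      refine le_of_primePow (H := H) (K := zpowers (g ^ r ^ (orderOf g).factorization r)) (fun p hp w hw j hj => ?_)
        (mem_zpowers _)
      rcases eq_or_ne w 1 with rfl | hw1
      · exact one_mem _
      refine hmem p w j hp.out (fun e => hw1 ?_) hj
      subst e
      have h1 : orderOf w ∣ orderOf (g ^ p ^ (orderOf g).factorization p) := orderOf_dvd_of_mem_zpowers hw
      rw [orderOf_pow_of_dvd (pow_ne_zero _ hp.out.ne_zero) (Nat.ordProj_dvd _ _), hj] at h1
      rcases j with _ | j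
      · exact orderOf_eq_one_iff.1 (by rw [hj, pow_zero])
      · exact absurd ((dvd_pow_self p j.succ_ne_zero).trans h1)
          (Nat.not_dvd_ordCompl hp.out (orderOf_pos g).ne')
  haveI := hp.isNilpotent
  exact Group.isSolvable_of_ker_le_range H.subtype (QuotientGroup.mk' H) (by simp)

namespace Three

variable {a b c : ℕ} (h : Three G a b c) (hZ : center G = ⊥)

include h hZ

/-- When `b` is a power of `r`, all non-trivial `r`-elements have type `b`. -/
theorem val_rElement (hns : ¬ Group.IsSolvable G) (hcb : ¬ c ∣ b) {r : ℕ} [hr : Fact r.Prime]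
    {R : Sylow r G} {y : G} (hyR : centralizer ({y} : Set G) = (R : Subgroup G)) (hyb : val y = b)
    {u : G} (hu1 : u ≠ 1) {i : ℕ} (hu : orderOf u = r ^ i) : val u = b := by
  have hb : b = Nat.card (R : Subgroup G) := by rw [← hyb, val, hyR]
  have hbp : ∀ {p : ℕ}, p.Prime → p ∣ b → p = r := fun {p} hp hd => by
    rw [hb, R.card_eq_multiplicity] at hd
    exact (Nat.prime_dvd_prime_iff_eq hp hr.out).1 (hp.dvd_of_dvd_pow hd)
  have hne : ∀ {v : G}, v ≠ 1 → (orderOf v).Coprime r → v ∉ centralizer ({y} : Set G) := fun {v} hv hco hm => by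
    rw [hyR] at hm
    obtain ⟨k, hk⟩ := IsPGroup.iff_orderOf.1 R.2 ⟨v, hm⟩
    rw [Subgroup.orderOf_mk] at hk
    exact hv (orderOf_eq_one_iff.1 (Nat.eq_one_of_dvd_coprimes (hco.pow_right k) dvd_rfl (dvd_of_eq hk)))
  -- move `u` into `R`
  obtain ⟨g, hg⟩ : ∃ g : G, g * u * g⁻¹ ∈ (R : Subgroup G) := by
    obtain ⟨U, hU⟩ := (IsPGroup.of_card (n := i) (by rw [Nat.card_zpowers, hu]) :
      IsPGroup r (zpowers u)).exists_le_sylow
    obtain ⟨g, hg⟩ := MulAction.exists_smul_eq G U R
    refine ⟨g, ?_⟩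
    rw [← hg, Sylow.coe_subgroup_smul]
    exact ⟨u, hU (mem_zpowers u), rfl⟩
  rw [← val_conj g]
  set w := g * u * g⁻¹ with hw
  have hw1 : w ≠ 1 := fun e => hu1 (conj_eq_one_iff.1 e)
  have hwo : orderOf w = r ^ i := by rw [hw, ← MulAut.conj_apply, MulEquiv.orderOf_eq, hu]
  have hwy : Commute w y := mem_cent.1 (hyR ▸ hg : w ∈ centralizer ({y} : Set G))
  rcases h.cases w hw1 with e | e | e
  · exfalso
    obtain ⟨q, hq, hqr, hqG, hqc⟩ : ∃ q : ℕ, q.Prime ∧ q ≠ r ∧ q ∣ Nat.card G ∧ ¬ Full G q c := by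
      by_contra hno
      refine hns (solvable_of_rPower_index (r := r) fun p v j hp hpr hv => ?_)
      rcases eq_or_ne v 1 with rfl | hv1
      · exact ⟨0, by rw [pow_zero, index_eq_one]; exact eq_top_iff.2 fun w _ => mem_cent.2 (Commute.one_right w)⟩
      refine ⟨_, Nat.eq_prime_pow_of_unique_prime_dvd index_ne_zero_of_finite fun {d} hd hdd => ?_⟩
      by_contra hdr
      haveI := Fact.mk hd
      have hdG := hdd.trans (index_dvd_card _)
      have hnf := not_full_of_dvd_index hd hdd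
      rcases h.cases v hv1 with e' | e' | e' <;> rw [e'] at hnf
      · refine hnf ((h.full_or hdG).resolve_right fun hf => ?_)
        exact hdr (hbp hd ((dvd_pow_self d (hd.factorization_pos_of_dvd Nat.card_pos.ne' hdG).ne').trans hf))
      · refine hpr (hbp hp (e' ▸ ?_))
        have hov : orderOf v ∣ val v := Subgroup.orderOf_dvd_natCard _ (self_mem v)
        refine dvd_trans ?_ hov
        rcases j with _ | j
        · exact absurd (orderOf_eq_one_iff.1 (by rw [hv, pow_zero])) hv1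
        · exact hv ▸ dvd_pow_self p j.succ_ne_zero
      · exact hno ⟨d, hd, hdr, hdG, hnf⟩
    haveI := Fact.mk hq
    obtain ⟨u', i', hu'1, hu'o, -, hC⟩ := h.exists_same_cent hqr hqG
      (fun hf => hqr (hbp hq ((dvd_pow_self q (hq.factorization_pos_of_dvd Nat.card_pos.ne' hqG).ne').trans hf)))
      hqc e hw1 hwo
    refine hne hu'1 (by rw [hu'o]; exact ((Nat.coprime_primes hq hr.out).2 hqr).pow_left _) ?_
    exact mem_cent.2 (mem_cent.1 (hC ▸ mem_cent.2 hwy.symm : y ∈ centralizer ({u'} : Set G))).symm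
  · exact e
  · exfalso
    obtain ⟨q, hq, hqc, hqr⟩ : ∃ q : ℕ, q.Prime ∧ q ∣ c ∧ q ≠ r := by
      by_contra hno
      push Not at hno
      have hc0 : c ≠ 0 := fun e0 => (val_pos w).ne' (e.trans e0)
      obtain ⟨k, hk⟩ : ∃ k, c = r ^ k := ⟨_, Nat.eq_prime_pow_of_unique_prime_dvd hc0 fun {d} hd hdd => hno d hd hdd⟩
      refine hcb ?_
      rw [hk, hb, R.card_eq_multiplicity]
      exact pow_dvd_pow r ((hr.out.pow_dvd_iff_le_factorization Nat.card_pos.ne').1 (hk ▸ e ▸ val_dvd_card w))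
    haveI := Fact.mk hq
    obtain ⟨⟨t, ht⟩, ht'⟩ := exists_prime_orderOf_dvd_card' (G := centralizer ({w} : Set G)) q
      (by rw [← val, e]; exact hqc)
    rw [Subgroup.orderOf_mk] at ht'
    have ht1 : t ≠ 1 := fun e => hq.one_lt.ne (by rw [← ht', e, orderOf_one])
    have hco : (orderOf t).Coprime (orderOf w) := coprime_pow hqr (i := 1) (by rw [ht', pow_one]) hwo
    have hle := cent_mul_le (mem_cent.1 ht) hco
    have hd : val (t * w) ∣ c := e ▸ val_dvd (hle.trans inf_le_right)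
    have hval : val (t * w) = c := by
      rcases h.cases _ (mul_ne_one ht1 hco) with e' | e' | e'
      · exact absurd (e' ▸ hd) h.nac
      · exact absurd (e' ▸ hd) h.nbc
      · exact e'
    have heq := eq_of_le_of_val (hle.trans inf_le_right) (hval.trans e.symm)
    have hy' : y ∈ centralizer ({t * w} : Set G) := heq ▸ mem_cent.2 hwy.symm
    exact hne ht1 (by rw [ht']; exact (Nat.coprime_primes hq hr.out).2 hqr)
      (mem_cent.2 (mem_cent.1 (hle hy').1).symm)

/-- A Sylow subgroup of order `b` is abelian. -/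
theorem sylow_comm (hns : ¬ Group.IsSolvable G) (hcb : ¬ c ∣ b) {r : ℕ} [hr : Fact r.Prime]
    {R : Sylow r G} {y : G} (hy1 : y ≠ 1) (hyR : centralizer ({y} : Set G) = (R : Subgroup G))
    (hyb : val y = b) : IsMulCommutative (R : Subgroup G) := by
  have hb : b = Nat.card (R : Subgroup G) := by rw [← hyb, val, hyR]
  have hcentp : ∀ {u : G}, u ≠ 1 → ∀ {i : ℕ}, orderOf u = r ^ i →
      ∃ U : Sylow r G, (U : Subgroup G) = centralizer ({u} : Set G) := fun {u} hu1 {i} hu => by
    refine ⟨Sylow.ofCard _ ?_, rfl⟩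
    show val u = _
    rw [h.val_rElement hZ hns hcb hyR hyb hu1 hu, hb, R.card_eq_multiplicity]
  have hrG : r ∣ Nat.card G := by
    obtain ⟨x, hx1, hx⟩ := h.exb
    refine dvd_trans ?_ (card_subgroup_dvd_card (R : Subgroup G))
    have hgt := hx ▸ one_lt_val hx1
    rw [hb, R.card_eq_multiplicity] at hgt
    rw [R.card_eq_multiplicity]
    exact dvd_pow_self r (fun e => by rw [e, pow_zero] at hgt; omega)
  haveI : (Cfsg.pCore r G).Normal := sSup_normal _ fun _ h' => h'.1
  by_cases hO : Cfsg.pCore r G = ⊥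
  · rcases eq_or_ne r 2 with rfl | hr2
    · refine Cfsg.Agent.S4355.result (fun x ⟨j, hj⟩ hd => ?_) R
      rcases eq_or_ne x 1 with rfl | hx
      · rw [show centralizer ({(1 : G)} : Set G) = ⊤ from eq_top_iff.2 fun w _ =>
          mem_cent.2 (Commute.one_right w), index_top] at hd
        omega
      refine not_full_of_dvd_index Nat.prime_two hd ?_
      rw [h.val_rElement hZ hns hcb hyR hyb hx hj, hb]
      exact (full_iff R _).2 dvd_rfl
    obtain ⟨x₀, hx₀1, hx₀⟩ := h.exa
    obtain ⟨p, hp, hpd⟩ := Nat.exists_prime_and_dvd (fun e => hx₀1 (orderOf_eq_one_iff.1 e))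
    haveI := Fact.mk hp
    set x := x₀ ^ (orderOf x₀ / p)
    have hxo : orderOf x = p := orderOf_pow_orderOf_div (orderOf_pos x₀).ne' hpd
    have hx1 : x ≠ 1 := fun e => hp.one_lt.ne (by rw [← hxo, e, orderOf_one])
    have hxa : val x = a := h.val_a hx1 (hx₀ ▸ val_dvd (cent_le_pow x₀ _))
    have hidx : ∃ i, (centralizer ({x} : Set G)).index = r ^ i := by
      refine ⟨_, Nat.eq_prime_pow_of_unique_prime_dvd index_ne_zero_of_finite fun {d} hd hdd => ?_⟩
      by_contra hdr
      haveI := Fact.mk hd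
      have hdG := hdd.trans (index_dvd_card _)
      refine not_full_of_dvd_index hd hdd (hxa ▸ (h.full_or hdG).resolve_right fun hf => hdr ?_)
      have := (dvd_pow_self d (hd.factorization_pos_of_dvd Nat.card_pos.ne' hdG).ne').trans hf
      rw [hb, R.card_eq_multiplicity] at this
      exact (Nat.prime_dvd_prime_iff_eq hd hr.out).1 (hd.dvd_of_dvd_pow this)
    obtain ⟨M, hM⟩ : ∃ M, M = normalClosure ({x} : Set G) := ⟨_, rfl⟩
    haveI hMn : M.Normal := hM ▸ normalClosure_normal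
    have hMc : ∀ a ∈ M, ∀ b ∈ M, a * b = b * a := fun a ha b hb => by
      have h1 := map_normalClosure_commute hidx _ (mem_map_of_mem (QuotientGroup.mk' _) (hM ▸ ha)) _
        (mem_map_of_mem (QuotientGroup.mk' _) (hM ▸ hb))
      rw [← map_mul, ← map_mul] at h1
      have h2 := QuotientGroup.eq.1 h1
      rw [hO, mem_bot, inv_mul_eq_one] at h2
      exact h2
    have hMne : M ≠ ⊥ := fun e => hx1 (mem_bot.1 (e ▸ hM ▸ subset_normalClosure rfl))
    let N : Subgroup G :=
      { carrier := {g | g ∈ M ∧ ∃ k : ℕ, g ^ r ^ k = 1}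
        one_mem' := ⟨one_mem M, 0, one_pow _⟩
        mul_mem' := by
          rintro g g' ⟨hg, k, hk⟩ ⟨hg', k', hk'⟩
          refine ⟨mul_mem hg hg', k + k', ?_⟩
          rw [(show Commute g g' from hMc g hg g' hg').mul_pow, pow_add, pow_mul g, hk, one_pow,
            mul_comm (r ^ k), pow_mul g', hk', one_pow, one_mul]
        inv_mem' := by
          rintro g ⟨hg, k, hk⟩
          exact ⟨inv_mem hg, k, by rw [inv_pow, hk, inv_one]⟩ }
    haveI hNn : N.Normal := ⟨fun g ⟨hg, k, hk⟩ t =>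
      ⟨hMn.conj_mem g hg t, k, by rw [conj_pow, hk, mul_one, mul_inv_cancel]⟩⟩
    have hNO : N ≤ Cfsg.pCore r G := Cfsg.Lib.Fusion.le_pCore hNn fun ⟨g, hg, k, hk⟩ => ⟨k, Subtype.ext hk⟩
    have hfpf : ∀ u ∈ (R : Subgroup G), u ≠ 1 → M ⊓ centralizer {u} = ⊥ := fun u hu hu1 => by
      refine eq_bot_iff.2 fun m hm => ?_
      obtain ⟨i, hi⟩ := IsPGroup.iff_orderOf.1 R.2 ⟨u, hu⟩
      rw [Subgroup.orderOf_mk] at hi
      obtain ⟨U, hU⟩ := hcentp hu1 hi
      obtain ⟨k, hk⟩ := U.2 ⟨m, hU ▸ hm.2⟩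
      have : m ∈ N := ⟨hm.1, k, congrArg Subtype.val hk⟩
      have := hNO this
      rwa [hO] at this
    let P : Sylow r (R : Subgroup G) := Sylow.ofCard ⊤ (by
      rw [card_top]
      conv_rhs => rw [R.card_eq_multiplicity, Nat.Prime.factorization_pow hr.out, Finsupp.single_eq_same]
      exact R.card_eq_multiplicity)
    rcases Cfsg.Lib.ComplementStructure.sylow_cyclic_or_quaternion hMne hfpf r P with hc | ⟨e, -⟩
    · haveI := hc
      haveI : IsCyclic (R : Subgroup G) :=
        isCyclic_of_surjective (P : Subgroup (R : Subgroup G)).subtype fun g => ⟨⟨g, mem_top g⟩, rfl⟩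
      exact IsCyclic.isMulCommutative
    · exact absurd e hr2
  · obtain ⟨O, hOdef⟩ : ∃ O, O = Cfsg.pCore r G := ⟨_, rfl⟩
    haveI hOn : O.Normal := hOdef ▸ inferInstance
    have hOp : IsPGroup r O := hOdef ▸ Cfsg.Lib.Fusion.pCore_isPGroup (G := G) r
    have hOU : ∀ U : Sylow r G, O ≤ (U : Subgroup G) := fun U => by
      obtain ⟨T, hT⟩ := hOp.exists_le_sylow
      obtain ⟨g, hg⟩ := MulAction.exists_smul_eq G T U
      intro o ho
      rw [← hg, Sylow.coe_subgroup_smul]
      refine ⟨g⁻¹ * o * g, hT ?_, by simp [mul_assoc]⟩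
      simpa using hOn.conj_mem o ho g⁻¹
    obtain ⟨v, hvR, hv1, hvO, hvle⟩ : ∃ v ∈ (R : Subgroup G), v ≠ 1 ∧ v ∈ O ∧
        (R : Subgroup G) ≤ centralizer ({v} : Set G) := by
      have hne : O.subgroupOf (R : Subgroup G) ≠ ⊥ := fun e => hO (by
        rw [← hOdef, eq_bot_iff]
        intro o ho
        have : (⟨o, hOU R ho⟩ : (R : Subgroup G)) ∈ O.subgroupOf R := mem_subgroupOf.2 ho
        rw [e, mem_bot] at this
        exact mem_bot.2 (congrArg Subtype.val this))
      haveI := R.2.isNilpotent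
      obtain ⟨⟨v, hvR⟩, hv, hv1⟩ := (bot_or_exists_ne_one _).resolve_left
        (Cfsg.Lib.Solv.inf_center_ne_bot_of_isNilpotent (N := O.subgroupOf (R : Subgroup G)) hne)
      exact ⟨v, hvR, fun e => hv1 (Subtype.ext e), mem_subgroupOf.1 hv.1,
        fun s hs => mem_cent.2 (congrArg Subtype.val (mem_center_iff.1 hv.2 ⟨s, hs⟩))⟩
    obtain ⟨i, hi⟩ := IsPGroup.iff_orderOf.1 R.2 ⟨v, hvR⟩
    rw [Subgroup.orderOf_mk] at hi
    have hCv : centralizer ({v} : Set G) = (R : Subgroup G) :=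
      (eq_of_le_of_card_ge hvle (by rw [← val, h.val_rElement hZ hns hcb hyR hyb hv1 hi, hb])).symm
    have hCR : centralizer (O : Set G) ≤ (R : Subgroup G) := fun g hg =>
      hCv ▸ mem_cent.2 (mem_centralizer_iff.1 hg v hvO).symm
    have hRC : (R : Subgroup G) ≤ centralizer (O : Set G) := fun u hu => by
      rcases eq_or_ne u 1 with rfl | hu1
      · exact one_mem _
      obtain ⟨i, hi⟩ := IsPGroup.iff_orderOf.1 R.2 ⟨u, hu⟩
      rw [Subgroup.orderOf_mk] at hi
      obtain ⟨U, hU⟩ := hcentp hu1 hi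
      exact mem_centralizer_iff.2 fun o ho => (mem_cent.1 (hU ▸ hOU U ho)).eq
    have hRn : (R : Subgroup G).Normal := le_antisymm hCR hRC ▸ (inferInstance : (centralizer (O : Set G)).Normal)
    have hRO : (R : Subgroup G) ≤ O := hOdef ▸ Cfsg.Lib.Fusion.le_pCore hRn R.2
    exact ⟨⟨fun p q => Subtype.ext (mem_centralizer_iff.1 (hRC q.2) p (hRO p.2))⟩⟩

/-- The abelian subgroup `B`. -/
theorem exists_B' [Fintype G] (hns : ¬ Group.IsSolvable G) (hcb : ¬ c ∣ b) :
    ∃ (B : Subgroup G) (y : G) (r : ℕ), Cfsg.Lib.Char.CAEven.IsCA B ∧ Nat.card B = b ∧ y ∈ B ∧ y ≠ 1 ∧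
      r.Prime ∧ r ∣ Nat.card G ∧ Full G r b ∧ r ∣ b := by
  obtain ⟨x, hx1, hx⟩ := h.exa
  obtain ⟨r, hr, hrG, hra⟩ := exists_not_full_prime hZ hx1
  rw [hx] at hra
  haveI := Fact.mk hr
  have hrfull : Full G r b := (h.full_or hrG).resolve_left hra
  have hrb : r ∣ b := (dvd_pow_self r (hr.factorization_pos_of_dvd Nat.card_pos.ne' hrG).ne').trans hrfull
  obtain ⟨R⟩ : Nonempty (Sylow r G) := inferInstance
  obtain ⟨y, hyR', hy1, hyle, ⟨i, hi⟩, hyf⟩ := exists_central hrG R
  have hyb : val y = b := by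
    rcases h.cases y hy1 with e | e | e
    · exact absurd (e ▸ hyf) hra
    · exact e
    · exact absurd ((e ▸ hyf : Full G r c).trans h.ca) hra
  obtain ⟨B, hB⟩ : ∃ B, B = centralizer ({y} : Set G) := ⟨_, rfl⟩
  have hcomm : ∀ a₁ ∈ B, ∀ a₂ ∈ B, a₁ * a₂ = a₂ * a₁ := by
    by_cases hq : ∃ q : ℕ, q.Prime ∧ q ≠ r ∧ q ∣ b
    · obtain ⟨q, hq, hqr, hqb⟩ := hq
      haveI := Fact.mk hq
      obtain ⟨⟨v, hv⟩, hv'⟩ := exists_prime_orderOf_dvd_card' (G := centralizer ({y} : Set G)) q
        (by rw [← val, hyb]; exact hqb)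
      rw [Subgroup.orderOf_mk] at hv'
      have hv1 : v ≠ 1 := fun e => hq.one_lt.ne (by rw [← hv', e, orderOf_one])
      have hvB : centralizer ({v} : Set G) = B := hB ▸ h.cent_eq_of_coprime hcb hyb hv1 (mem_cent.1 hv)
        (coprime_pow hqr (i := 1) (by rw [hv', pow_one]) hi)
      have hvb : val v = b := by rw [val, hvB, hB]; exact hyb
      have hle : B ≤ centralizer (B : Set G) := le_of_primePow fun p _ w hw j hj => by
        rcases eq_or_ne w 1 with rfl | hw1
        · exact one_mem _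
        have hCw : centralizer ({w} : Set G) = B := by
          by_cases hpr : p = r
          · rw [← hvB] at hw ⊢
            exact h.cent_eq_of_coprime hcb hvb hw1 (mem_cent.1 hw)
              (coprime_pow (hpr ▸ hqr.symm) (j := 1) hj (by rw [hv', pow_one]))
          · rw [hB] at hw ⊢
            exact h.cent_eq_of_coprime hcb hyb hw1 (mem_cent.1 hw) (coprime_pow hpr hj hi)
        refine mem_centralizer_iff.2 fun u hu => ?_
        rw [SetLike.mem_coe, ← hCw] at hu
        exact (mem_cent.1 hu).eq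
      exact fun a₁ h₁ a₂ h₂ => (mem_centralizer_iff.1 (hle h₁) a₂ h₂).symm
    · push Not at hq
      have hyR : centralizer ({y} : Set G) = (R : Subgroup G) := by
        refine (eq_of_le_of_card_ge hyle ?_).symm
        rw [← val, hyb, R.card_eq_multiplicity]
        have hb0 : b ≠ 0 := hyb ▸ (val_pos y).ne'
        obtain ⟨k, hk⟩ : ∃ k, b = r ^ k :=
          ⟨_, Nat.eq_prime_pow_of_unique_prime_dvd hb0 fun {d} hd hdd => not_not.1 fun hne => hq d hd hne hdd⟩
        rw [hk]
        exact Nat.pow_le_pow_right hr.pos ((hr.pow_dvd_iff_le_factorization Nat.card_pos.ne').1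
          (hk ▸ hyb ▸ val_dvd_card y))
      have hc := h.sylow_comm hZ hns hcb hy1 hyR hyb
      intro a₁ h₁ a₂ h₂
      rw [hB, hyR] at h₁ h₂
      exact congrArg Subtype.val (hc.is_comm.comm ⟨a₁, h₁⟩ ⟨a₂, h₂⟩)
  refine ⟨B, y, r, ⟨hcomm, fun w hw hw1 => ?_⟩, hB ▸ hyb, hB ▸ self_mem y, hy1, hr, hrG, hrfull, hrb⟩
  rw [hB]
  exact (h.eq_b hyb hw1 fun g hg => mem_cent.2 (hcomm g (hB ▸ hg) w hw)).symm

end Three

end Cfsg.Lib.ConjRankThree
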